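import Cfsg.Agent.H797.Nc.Tools
import Cfsg.Agent.H994.Cyc.Imp
import Cfsg.Agent.H539.PartCount

/-!
# Pairs of permutations with the same sign; invariant sets and two blocks (helper549, S4766)
-/

set_option autoImplicit false
set_option linter.unusedSectionVars false

namespace Cfsg.Agent.H549.NcS

open Equiv MulAction
open scoped Nat Pointwise
open Cfsg.Agent.H797.Nc Cfsg.Agent.H540.ClassNum

section EvSec

variable (β γ : Type*) [Fintype β] [DecidableEq β] [Fintype γ] [DecidableEq γ]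

/-- the product of the two signs -/
def sg : Perm β × Perm γ →* ℤˣ :=
  (Perm.sign.comp (MonoidHom.fst (Perm β) (Perm γ))) * (Perm.sign.comp (MonoidHom.snd (Perm β) (Perm γ)))

/-- pairs of permutations with the same sign -/
def Ev : Subgroup (Perm β × Perm γ) := (sg β γ).ker

variable {β γ}

theorem mem_Ev {x : Perm β × Perm γ} : x ∈ Ev β γ ↔ Perm.sign x.1 = Perm.sign x.2 := by
  unfold Ev sg
  rw [MonoidHom.mem_ker, MonoidHom.mul_apply, MonoidHom.comp_apply, MonoidHom.comp_apply,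
    MonoidHom.coe_fst, MonoidHom.coe_snd]
  constructor
  · intro h
    have h2 := mul_eq_one_iff_eq_inv.1 h
    rwa [Int.units_inv_eq_self] at h2
  · intro h
    rw [h, Int.units_mul_self]

theorem exists_odd (hb : 2 ≤ Fintype.card β) : ∃ σ : Perm β, Perm.sign σ = -1 := by
  obtain ⟨a, b, hab⟩ := Fintype.exists_pair_of_one_lt_card (α := β) (by omega)
  exact ⟨swap a b, Perm.sign_swap hab⟩

theorem two_mul_card_Ev (hb : 2 ≤ Fintype.card β) :
    2 * Nat.card (Ev β γ) = (Fintype.card β)! * (Fintype.card γ)! := by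
  have h1 := (Ev β γ).card_mul_index
  have h2 : (Ev β γ).index = 2 := by
    unfold Ev
    rw [Subgroup.index_ker]
    have h3 : (sg β γ).range = ⊤ := by
      rw [MonoidHom.range_eq_top]
      intro u
      rcases Int.units_eq_one_or u with rfl | rfl
      · exact ⟨1, map_one _⟩
      · obtain ⟨σ, hσ⟩ := exists_odd hb
        refine ⟨(σ, 1), ?_⟩
        unfold sg
        rw [MonoidHom.mul_apply, MonoidHom.comp_apply, MonoidHom.comp_apply,
          MonoidHom.coe_fst, MonoidHom.coe_snd, hσ, map_one, mul_one]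
    rw [h3, Nat.card_congr (Subgroup.topEquiv (G := ℤˣ)).toEquiv, Nat.card_eq_fintype_card,
      Fintype.card_units_int]
  rw [h2, Nat.card_prod, Nat.card_perm, Nat.card_perm, Nat.card_eq_fintype_card (α := β),
    Nat.card_eq_fintype_card (α := γ)] at h1
  rw [mul_comm, h1]

/-- the second projection -/
def pr2 : Ev β γ →* Perm γ := (MonoidHom.snd (Perm β) (Perm γ)).comp (Ev β γ).subtype

def kerEquiv : (pr2 (β := β) (γ := γ)).ker ≃* alternatingGroup β where
  toFun x := ⟨x.1.1.1, by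
    have h1 : x.1.1.2 = 1 := x.2
    have h2 := mem_Ev.1 x.1.2
    rw [h1, map_one] at h2
    exact Perm.mem_alternatingGroup.2 h2⟩
  invFun y := ⟨⟨(y.1, 1), mem_Ev.2 (by
    have h1 := Perm.mem_alternatingGroup.1 y.2
    show Perm.sign y.1 = Perm.sign 1
    rw [h1, map_one])⟩, rfl⟩
  left_inv x := by
    apply Subtype.ext
    apply Subtype.ext
    have h1 : x.1.1.2 = 1 := x.2
    exact Prod.ext rfl h1.symm
  right_inv y := rfl
  map_mul' x y := rfl

theorem range_pr2 (hb : 2 ≤ Fintype.card β) : (pr2 (β := β) (γ := γ)).range = ⊤ := by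
  rw [MonoidHom.range_eq_top]
  intro τ
  rcases Int.units_eq_one_or (Perm.sign τ) with h | h
  · exact ⟨⟨(1, τ), mem_Ev.2 (by rw [h]; exact map_one _)⟩, rfl⟩
  · obtain ⟨σ, hσ⟩ := exists_odd hb
    exact ⟨⟨(σ, τ), mem_Ev.2 (by rw [h, hσ])⟩, rfl⟩

theorem k_Ev_le (hb : 2 ≤ Fintype.card β) :
    Nat.card (ConjClasses (Ev β γ)) ≤
      Nat.card (ConjClasses (alternatingGroup β)) * Nat.card (ConjClasses (Perm γ)) := by
  have h1 := le_ker_mul_range (pr2 (β := β) (γ := γ))
  rw [range_pr2 hb, card_conjClasses_congr (Subgroup.topEquiv (G := Perm γ)),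
    card_conjClasses_congr (kerEquiv (β := β) (γ := γ))] at h1
  exact h1

/-! ### the exact value for four and four points -/

/-- commuting pairs with given signs -/
def CT (β : Type*) [Fintype β] [DecidableEq β] (s : ℤˣ × ℤˣ) : Type _ :=
  {p : Perm β × Perm β // p.1 * p.2 = p.2 * p.1 ∧ Perm.sign p.1 = s.1 ∧ Perm.sign p.2 = s.2}

instance (s : ℤˣ × ℤˣ) : Fintype (CT β s) := by
  unfold CT
  infer_instance

theorem pairs_Ev_le : Nat.card (ConjClasses (Ev β γ)) * Nat.card (Ev β γ) ≤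
    ∑ s : ℤˣ × ℤˣ, Fintype.card (CT β s) * Fintype.card (CT γ s) := by
  classical
  rw [← card_comm_eq_card_conjClasses_mul_card]
  have h1 : Nat.card (Σ s : ℤˣ × ℤˣ, CT β s × CT γ s) =
      ∑ s : ℤˣ × ℤˣ, Fintype.card (CT β s) * Fintype.card (CT γ s) := by
    rw [Nat.card_eq_fintype_card, Fintype.card_sigma]
    exact Finset.sum_congr rfl fun s _ => Fintype.card_prod _ _
  rw [← h1]
  refine Nat.card_le_card_of_injective (fun p => ⟨(Perm.sign p.1.1.1.1, Perm.sign p.1.2.1.1),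
    ⟨(p.1.1.1.1, p.1.2.1.1), congrArg (fun z : Ev β γ => z.1.1) p.2, rfl, rfl⟩,
    ⟨(p.1.1.1.2, p.1.2.1.2), congrArg (fun z : Ev β γ => z.1.2) p.2, (mem_Ev.1 p.1.1.2).symm,
      (mem_Ev.1 p.1.2.2).symm⟩⟩) ?_
  rintro ⟨⟨⟨⟨a, b⟩, h1⟩, ⟨⟨c, d⟩, h2⟩⟩, h3⟩ ⟨⟨⟨⟨a', b'⟩, h1'⟩, ⟨⟨c', d'⟩, h2'⟩⟩, h3'⟩ h
  have e1 : (a, c) = (a', c') := congrArg (fun z : Σ s : ℤˣ × ℤˣ, CT β s × CT γ s => z.2.1.1) h
  have e2 : (b, d) = (b', d') := congrArg (fun z : Σ s : ℤˣ × ℤˣ, CT β s × CT γ s => z.2.2.1) h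
  obtain ⟨rfl, rfl⟩ := Prod.ext_iff.1 e1
  obtain ⟨rfl, rfl⟩ := Prod.ext_iff.1 e2
  rfl

/-- transport -/
def ctMap (e : β ≃ γ) (s : ℤˣ × ℤˣ) (p : CT β s) : CT γ s :=
  ⟨(e.permCongr p.1.1, e.permCongr p.1.2), by
    have h := congrArg (fun z => e.permCongr z) p.2.1
    simp only [Equiv.permCongr_mul] at h
    exact h, by rw [Perm.sign_permCongr]; exact p.2.2.1, by rw [Perm.sign_permCongr]; exact p.2.2.2⟩

theorem card_CT_le (e : β ≃ γ) (s : ℤˣ × ℤˣ) : Fintype.card (CT β s) ≤ Fintype.card (CT γ s) := by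
  refine Fintype.card_le_of_injective (ctMap e s) ?_
  intro p q h
  apply Subtype.ext
  have h1 : e.permCongr p.1.1 = e.permCongr q.1.1 := congrArg (fun z : CT γ s => z.1.1) h
  have h2 : e.permCongr p.1.2 = e.permCongr q.1.2 := congrArg (fun z : CT γ s => z.1.2) h
  exact Prod.ext (e.permCongr.injective h1) (e.permCongr.injective h2)

theorem card_CT_four : ∀ s : ℤˣ × ℤˣ, Fintype.card (CT (Fin 4) s) = if s = (1, 1) then 48 else 24 := by
  decide +kernel

theorem k_Ev_four (hb : Fintype.card β = 4) (hc : Fintype.card γ = 4) :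
    Nat.card (ConjClasses (Ev β γ)) ≤ 14 := by
  have h1 := pairs_Ev_le (β := β) (γ := γ)
  have h2 := two_mul_card_Ev (β := β) (γ := γ) (by omega)
  rw [hb, hc] at h2
  have h3 : ∑ s : ℤˣ × ℤˣ, Fintype.card (CT β s) * Fintype.card (CT γ s) ≤
      ∑ s : ℤˣ × ℤˣ, (if s = (1, 1) then 48 else 24) * (if s = (1, 1) then 48 else 24) := by
    refine Finset.sum_le_sum fun s _ => Nat.mul_le_mul ?_ ?_
    · rw [← card_CT_four s]
      exact card_CT_le (Fintype.equivFinOfCardEq hb) s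
    · rw [← card_CT_four s]
      exact card_CT_le (Fintype.equivFinOfCardEq hc) s
  have h4 : ∑ s : ℤˣ × ℤˣ, (if s = (1, 1) then 48 else 24) * (if s = (1, 1) then 48 else 24) = 4032 := by
    decide
  have h5 : (4 : ℕ)! = 24 := rfl
  rw [h5] at h2
  have h6 : Nat.card (Ev β γ) = 288 := by omega
  rw [h6] at h1
  rw [h4] at h3
  omega

end EvSec

section InvSec

variable {α : Type*} [Fintype α] [DecidableEq α]

theorem sign_parts (g : Perm α) (Δ : Finset α) (h : ∀ x, g x ∈ Δ ↔ x ∈ Δ) :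
    Perm.sign (g.subtypePerm (p := fun x => x ∈ Δ) h) *
      Perm.sign (g.subtypePerm (p := fun x => x ∉ Δ) fun x => not_congr (h x)) = Perm.sign g := by
  have h1 := Perm.sign_subtypeCongr (p := fun x => x ∈ Δ) (g.subtypePerm (p := fun x => x ∈ Δ) h)
    (g.subtypePerm (p := fun x => x ∉ Δ) fun x => not_congr (h x))
  have h2 : Perm.subtypeCongr (g.subtypePerm (p := fun x => x ∈ Δ) h)
    (g.subtypePerm (p := fun x => x ∉ Δ) fun x => not_congr (h x)) = g := by
    ext x
    by_cases hx : x ∈ Δ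
    · rw [Perm.subtypeCongr.left_apply _ _ hx]
      rfl
    · rw [Perm.subtypeCongr.right_apply _ _ hx]
      rfl
  rw [h2] at h1
  rw [h1]
  congr!

/-- an even group with an invariant set -/
theorem pairs_even {K : Type*} [Group K] {ι : K →* Perm α} (hι : Function.Injective ι)
    (hs : ∀ g, Perm.sign (ι g) = 1) (Δ : Finset α) (h : ∀ g x, ι g x ∈ Δ ↔ x ∈ Δ) :
    Nat.card K * Nat.card (ConjClasses K) ≤ Nat.card (Ev {x // x ∈ Δ} {x // x ∉ Δ}) *
      Nat.card (ConjClasses (Ev {x // x ∈ Δ} {x // x ∉ Δ})) := by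
  have hmem : ∀ g, resTwo ι (fun x => x ∈ Δ) h g ∈ Ev {x // x ∈ Δ} {x // x ∉ Δ} := by
    intro g
    rw [mem_Ev]
    have h1 := sign_parts (ι g) Δ (h g)
    rw [hs g] at h1
    have h2 := mul_eq_one_iff_eq_inv.1 h1
    rw [Int.units_inv_eq_self] at h2
    exact h2
  refine pairs_le ((resTwo ι (fun x => x ∈ Δ) h).codRestrict _ hmem) ?_
  intro a b hab
  exact resTwo_injective hι _ h (congrArg Subtype.val hab)

theorem sub_one (Δ : Finset α) : Fintype.card {x // x ∉ Δ} = Fintype.card α - Δ.card := card_out Δ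

/-- an even group with many commuting pairs and an invariant set -/
theorem choose_le_even {K : Type*} [Group K] {ι : K →* Perm α} (hι : Function.Injective ι)
    (hs : ∀ g, Perm.sign (ι g) = 1) (Δ : Finset α) (h : ∀ g x, ι g x ∈ Δ ↔ x ∈ Δ) {c u : ℕ} (h2 : 2 ≤ Δ.card)
    (hA : (Fintype.card α)! ≤ c * (2 * (Nat.card K * Nat.card (ConjClasses K))))
    (hu : Nat.card (ConjClasses (Ev {x // x ∈ Δ} {x // x ∉ Δ})) ≤ u) :
    (Fintype.card α).choose Δ.card ≤ c * u := by
  have hw : Δ.card ≤ Fintype.card α := Finset.card_le_univ Δ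
  have h1 := Nat.choose_mul_factorial_mul_factorial hw
  have h3 := pairs_even hι hs Δ h
  have h4 := two_mul_card_Ev (β := {x // x ∈ Δ}) (γ := {x // x ∉ Δ}) (by rw [card_in]; exact h2)
  rw [card_in, card_out] at h4
  have hpos : 0 < Δ.card ! * (Fintype.card α - Δ.card)! := Nat.mul_pos (Nat.factorial_pos _) (Nat.factorial_pos _)
  refine Nat.le_of_mul_le_mul_right ?_ hpos
  calc (Fintype.card α).choose Δ.card * (Δ.card ! * (Fintype.card α - Δ.card)!) = (Fintype.card α)! := by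
        rw [← h1]; ring
    _ ≤ c * (2 * (Nat.card K * Nat.card (ConjClasses K))) := hA
    _ ≤ c * (2 * (Nat.card (Ev {x // x ∈ Δ} {x // x ∉ Δ}) * u)) :=
        Nat.mul_le_mul_left _ (Nat.mul_le_mul_left _ (h3.trans (Nat.mul_le_mul_left _ hu)))
    _ = c * u * (2 * Nat.card (Ev {x // x ∈ Δ} {x // x ∉ Δ})) := by ring
    _ = _ := by rw [h4]

/-- numbers for an invariant set -/
theorem num_inv : ∀ n ∈ List.range 20, ∀ b ∈ List.range 20, 7 ≤ n → 3 ≤ b → 2 * b ≤ n → (b = 3 → n ≤ 14) →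
    2 * (row b b * row (n - b) (n - b)) < n.choose b := by
  decide +kernel

theorem num_three : ∀ n ∈ List.range 20, 7 ≤ n → 3 * row (n - 3) (n - 3) < n.choose 3 := by
  decide +kernel

theorem k_alt_three {β : Type*} [Fintype β] [DecidableEq β] (hb : Fintype.card β = 3) :
    Nat.card (ConjClasses (alternatingGroup β)) ≤ 3 := by
  refine card_conjClasses_le_card.trans ?_
  have : Nontrivial β := Fintype.one_lt_card_iff_nontrivial.1 (by omega)
  have h1 := two_mul_nat_card_alternatingGroup (α := β)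
  rw [Nat.card_perm, Nat.card_eq_fintype_card (α := β), hb] at h1
  have h2 : (3 : ℕ)! = 6 := rfl
  omega

/-- **no invariant set of size `b`, `3 ≤ b ≤ n - 3`** -/
theorem no_inv_aux {K : Type*} [Group K] {ι : K →* Perm α} (hι : Function.Injective ι)
    (hs : ∀ g, Perm.sign (ι g) = 1) (h7 : 7 ≤ Fintype.card α) (h19 : Fintype.card α ≤ 19)
    (hA : (Fintype.card α)! ≤ 2 * (Nat.card K * Nat.card (ConjClasses K))) (Δ : Finset α)
    (h : ∀ g x, ι g x ∈ Δ ↔ x ∈ Δ) (h3 : 3 ≤ Δ.card) (h4 : 2 * Δ.card ≤ Fintype.card α) : False := by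
  by_cases hc : Δ.card = 3 → Fintype.card α ≤ 14
  · have h5 := choose_le_row hι Δ h hA
    have h6 := num_inv (Fintype.card α) (List.mem_range.2 (by omega)) Δ.card (List.mem_range.2 (by omega)) h7 h3 h4 hc
    omega
  · push Not at hc
    obtain ⟨hc3, hc14⟩ := hc
    have h6 := num_three (Fintype.card α) (List.mem_range.2 (by omega)) h7
    have h7' : Nat.card (ConjClasses (Ev {x // x ∈ Δ} {x // x ∉ Δ})) ≤
        3 * row (Fintype.card α - 3) (Fintype.card α - 3) := by
      refine (k_Ev_le (by rw [card_in]; omega)).trans (Nat.mul_le_mul (k_alt_three (by rw [card_in, hc3])) ?_)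
      have := classes_le_row {x // x ∉ Δ}
      rwa [card_out, hc3] at this
    have h8 := choose_le_even hι hs Δ h (c := 1) (by omega) (by rw [one_mul]; exact hA) h7'
    rw [hc3, one_mul] at h8
    omega

theorem no_inv {K : Type*} [Group K] {ι : K →* Perm α} (hι : Function.Injective ι)
    (hs : ∀ g, Perm.sign (ι g) = 1) (h7 : 7 ≤ Fintype.card α) (h19 : Fintype.card α ≤ 19)
    (hA : (Fintype.card α)! ≤ 2 * (Nat.card K * Nat.card (ConjClasses K))) (Δ : Finset α)
    (h : ∀ g x, ι g x ∈ Δ ↔ x ∈ Δ) (h3 : 3 ≤ Δ.card) (h4 : Δ.card + 3 ≤ Fintype.card α) : False := by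
  by_cases h5 : 2 * Δ.card ≤ Fintype.card α
  · exact no_inv_aux hι hs h7 h19 hA Δ h h3 h5
  · have hc : Δᶜ.card = Fintype.card α - Δ.card := Finset.card_compl Δ
    exact no_inv_aux hι hs h7 h19 hA Δᶜ (fun g x => by rw [Finset.mem_compl, Finset.mem_compl, h])
      (by omega) (by omega)

/-! ### two blocks -/

theorem num_two : ∀ a ∈ List.range 10, 5 ≤ a → 4 * ((row a a - 1) * row a a) < (2 * a).choose a := by
  decide +kernel

theorem no_half {K : Type*} [Group K] {ι : K →* Perm α} (hι : Function.Injective ι)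
    (hs : ∀ g, Perm.sign (ι g) = 1) (h7 : 7 ≤ Fintype.card α) (h19 : Fintype.card α ≤ 19)
    (hA : (Fintype.card α)! ≤ 8 * (Nat.card K * Nat.card (ConjClasses K))) (Δ : Finset α)
    (h : ∀ g x, ι g x ∈ Δ ↔ x ∈ Δ) (h4 : 2 * Δ.card = Fintype.card α) : False := by
  have hA' : (Fintype.card α)! ≤ 4 * (2 * (Nat.card K * Nat.card (ConjClasses K))) := by
    rw [← mul_assoc]; exact hA
  have hout : Fintype.card α - Δ.card = Δ.card := by omega
  rcases Nat.lt_or_ge Δ.card 5 with h5 | h5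
  · have hΔ : Δ.card = 4 := by omega
    have h6 := k_Ev_four (β := {x // x ∈ Δ}) (γ := {x // x ∉ Δ}) (by rw [card_in, hΔ]) (by rw [card_out, hout, hΔ])
    have h8 := choose_le_even hι hs Δ h (by omega) hA' h6
    rw [← h4, hΔ] at h8
    have h9 : (2 * 4).choose 4 = 70 := by decide
    omega
  · have h6 := num_two Δ.card (List.mem_range.2 (by omega)) h5
    have hr1 : Nat.card (ConjClasses (Perm {x // x ∈ Δ})) ≤ row Δ.card Δ.card := by
      have := classes_le_row {x // x ∈ Δ}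
      rwa [card_in] at this
    have hr2 : Nat.card (ConjClasses (Perm {x // x ∉ Δ})) ≤ row Δ.card Δ.card := by
      have := classes_le_row {x // x ∉ Δ}
      rwa [card_out, hout] at this
    have h7' : Nat.card (ConjClasses (Ev {x // x ∈ Δ} {x // x ∉ Δ})) ≤ (row Δ.card Δ.card - 1) * row Δ.card Δ.card := by
      refine (k_Ev_le (by rw [card_in]; omega)).trans (Nat.mul_le_mul ?_ hr2)
      have h9 := H539.PartCount.card_conjClasses_alternating_lt (α := {x // x ∈ Δ}) (by rw [card_in]; exact h5)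
      omega
    have h8 := choose_le_even hι hs Δ h (by omega) hA' h7'
    rw [← h4] at h8
    omega

end InvSec

end Cfsg.Agent.H549.NcS
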