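import Cfsg.Agent.H549.NcS.Ev
import Cfsg.Agent.S4197
import Cfsg.Agent.S4202

/-!
# Transitive imprimitive groups of degree `7 ≤ n ≤ 19` (helper549, S4766)
-/

set_option autoImplicit false
set_option linter.unusedSectionVars false

namespace Cfsg.Agent.H549.NcS

open Equiv MulAction
open scoped Nat Pointwise
open Cfsg.Agent.H797.Nc Cfsg.Agent.H540.ClassNum

/-- a permutation of prime order of too few points -/
theorem eq_one_of_pow {X : Type*} [Finite X] {p : ℕ} (hp : p.Prime) (hX : Nat.card X < p) {σ : Perm X}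
    (h : σ ^ p = 1) : σ = 1 := by
  classical
  have := Fintype.ofFinite X
  rcases (Nat.dvd_prime hp).1 (orderOf_dvd_of_pow_eq_one h) with h1 | h1
  · exact orderOf_eq_one_iff.1 h1
  · exfalso
    have h2 : orderOf σ ∣ Nat.card (Perm X) := orderOf_dvd_natCard σ
    rw [h1, Nat.card_perm] at h2
    have := (hp.dvd_factorial).1 h2
    omega

theorem not_dvd_of_blocks {α β : Type} [Finite α] [Finite β] (T : Subgroup (Perm α)) (f : α → β) {c b p : ℕ}
    (hc : 2 ≤ c) (hfib : ∀ y, Nat.card {x // f x = y} = c) (hβ : Nat.card β = b)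
    (hW : ∀ h ∈ T, h ∈ H994.Cyc.Wr f) (hp : p.Prime) (hcp : c < p) (hbp : b < p) : ¬ p ∣ Nat.card T := by
  classical
  intro hd
  have : Fact p.Prime := ⟨hp⟩
  obtain ⟨g, hg⟩ := exists_prime_orderOf_dvd_card' p hd
  obtain ⟨π, hπ⟩ := hW g g.2
  have hpow : (g : Perm α) ^ p = 1 := by
    have h1 := pow_orderOf_eq_one g
    rw [hg] at h1
    have := congrArg (fun z : T => (z : Perm α)) h1
    simpa using this
  have hsurj : Function.Surjective f := by
    intro y
    have h1 : 0 < Nat.card {x // f x = y} := by rw [hfib]; omega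
    have h2 := (Nat.card_pos_iff.1 h1).1
    obtain ⟨⟨x, hx⟩⟩ := h2
    exact ⟨x, hx⟩
  have hk : ∀ (k : ℕ) x, f (((g : Perm α) ^ k) x) = (π ^ k) (f x) := by
    intro k
    induction k with
    | zero => intro x; rfl
    | succ k ih =>
      intro x
      rw [pow_succ', pow_succ', Perm.mul_apply, Perm.mul_apply, hπ, ih]
  have hπ1 : π = 1 := by
    apply eq_one_of_pow hp (by rw [hβ]; exact hbp)
    ext y
    obtain ⟨x, rfl⟩ := hsurj y
    rw [← hk, hpow]
    rfl
  have hg1 : (g : Perm α) = 1 := by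
    ext x
    have hinv : ∀ z, f ((g : Perm α) z) = f x ↔ f z = f x := by
      intro z
      rw [hπ, hπ1]
      rfl
    have h3 : (g : Perm α).subtypePerm (p := fun z => f z = f x) hinv = 1 := by
      apply eq_one_of_pow hp (by rw [hfib]; exact hcp)
      ext z
      rw [Perm.subtypePerm_pow]
      show ((g : Perm α) ^ p) z = z
      rw [hpow]
      rfl
    have := congrArg (fun σ : Perm {z // f z = f x} => ((σ ⟨x, rfl⟩ : {z // f z = f x}) : α)) h3
    exact this
  have h4 : g = 1 := Subtype.ext hg1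
  rw [h4, orderOf_one] at hg
  exact hp.one_lt.ne hg

theorem num_imp (n b c : ℕ) (h7 : 7 ≤ n) (h19 : n ≤ 19) (hb : 3 ≤ b) (hc : 2 ≤ c) (h : c * b = n) :
    (n = 8 ∧ c = 2 ∧ b = 4) ∨ (n = 9 ∧ c = 3 ∧ b = 3) ∨ (n = 10 ∧ c = 2 ∧ b = 5) ∨
      2 * ((b ! * c ! ^ b) * 2 ^ (n - 1)) < n ! := by
  subst h
  have hc6 : c ≤ 6 := by
    by_contra hcon
    have : 7 * 3 ≤ c * b := Nat.mul_le_mul (by omega) hb
    omega
  have hb9 : b ≤ 9 := by
    by_contra hcon
    have : 2 * 10 ≤ c * b := Nat.mul_le_mul hc (by omega)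
    omega
  interval_cases c <;> interval_cases b <;> first | omega | (simp; done) | (right; right; right; decide +kernel)

/-- **imprimitive groups** -/
theorem no_imprim {n : ℕ} (h7 : 7 ≤ n) (h19 : n ≤ 19) (T : Subgroup (Perm (Fin n)))
    (hT : T ≤ alternatingGroup (Fin n)) (ht : IsPretransitive T (Fin n)) (hp : ¬ IsPreprimitive T (Fin n)) :
    2 * (Nat.card T * Nat.card (ConjClasses T)) < n ! := by
  classical
  by_contra hcon
  push Not at hcon
  have hA : (Fintype.card (Fin n))! ≤ 2 * (Nat.card T * Nat.card (ConjClasses T)) := by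
    rw [Fintype.card_fin]; exact hcon
  have hs : ∀ g : T, Perm.sign (T.subtype g) = 1 := fun g => Perm.mem_alternatingGroup.1 (hT g.2)
  have hk := S4197.result T
  rw [Fintype.card_fin] at hk
  obtain ⟨β, _, f, c, b, hc, hb2, hcb, hfib, hβ, hW⟩ := H994.Cyc.exists_fibre T ht hp
  rw [Nat.card_eq_fintype_card, Fintype.card_fin] at hcb
  have hTc : Nat.card T ≤ b ! * c ! ^ b := by
    refine le_trans ?_ (H994.Cyc.card_Wr_le f hfib hβ)
    exact Nat.card_le_card_of_injective (fun g : T => (⟨g, hW g g.2⟩ : H994.Cyc.Wr f)) fun x y hxy =>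
      Subtype.ext (congrArg (fun z : H994.Cyc.Wr f => (z : Perm (Fin n))) hxy)
  rcases Nat.eq_or_lt_of_le hb2 with rfl | hb3
  · -- two blocks
    have : Nonempty β := by
      rw [← not_isEmpty_iff]
      intro hcon
      rw [Nat.card_of_isEmpty] at hβ
      omega
    obtain ⟨y0⟩ := this
    let B : β → Set (Fin n) := fun y => {x | f x = y}
    have hB : ∀ (t : T) (y : β), ∃ y' : β, t • B y = B y' := by
      intro t y
      obtain ⟨π, hπ⟩ := hW _ t.2
      refine ⟨π y, ?_⟩
      ext x
      rw [Set.mem_smul_set_iff_inv_smul_mem]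
      have h2 := hπ (t⁻¹ • x)
      have h3 : (t : Perm (Fin n)) (t⁻¹ • x) = x := smul_inv_smul t x
      rw [h3] at h2
      show f (t⁻¹ • x) = y ↔ f x = π y
      rw [h2]
      exact π.injective.eq_iff.symm
    set T0 : Subgroup T := stabilizer T (B y0) with hT0
    have hidx : T0.index ≤ 2 := by
      rw [hT0, index_stabilizer]
      have h2 : orbit T (B y0) ⊆ Set.range B := by
        rintro _ ⟨t, rfl⟩
        obtain ⟨y', hy'⟩ := hB t y0
        exact ⟨y', hy'.symm⟩
      have h3 : (Set.range B).ncard ≤ 2 := by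
        rw [← Set.image_univ, ← hβ, ← Set.ncard_univ]
        exact Set.ncard_image_le (Set.toFinite _)
      exact (Set.ncard_le_ncard h2 (Set.toFinite _)).trans h3
    have hpairs := pairs_index_two T0 hidx
    let BF : Finset (Fin n) := Finset.univ.filter fun x => x ∈ B y0
    have hBF : ∀ x, x ∈ BF ↔ x ∈ B y0 := by
      intro x
      simp only [BF, Finset.mem_filter, Finset.mem_univ, true_and]
    have hcard : BF.card = c := by
      rw [← hfib y0, ← Fintype.card_coe BF, ← Nat.card_eq_fintype_card]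
      exact Nat.card_congr ⟨fun x => ⟨x.1, (hBF x.1).1 x.2⟩, fun x => ⟨x.1, (hBF x.1).2 x.2⟩, fun x => rfl, fun x => rfl⟩
    refine no_half (ι := T.subtype.comp T0.subtype) (K := T0) ?_ (fun g => hs g.1) (by rw [Fintype.card_fin]; exact h7)
      (by rw [Fintype.card_fin]; exact h19) ?_ BF ?_ (by rw [Fintype.card_fin]; omega)
    · exact T.subtype_injective.comp T0.subtype_injective
    · omega
    · intro g x
      rw [hBF, hBF]
      have h2 : (g : T) • B y0 = B y0 := g.2
      have h3 : (g : T) • x ∈ (g : T) • B y0 ↔ x ∈ B y0 := Set.smul_mem_smul_set_iff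
      rw [h2] at h3
      exact h3
  · have hcase : ∀ (p N : ℕ), p.Prime → (p = 3 ∨ p = 5 ∨ p = 7) → c < p → b < p → 3 ^ (n - 1) < (N + 1) ^ 2 →
        2 * ((b ! * c ! ^ b) * N) < n ! → False := by
      intro p N hpp hp3 hcp hbp hN h1
      have h2 := not_dvd_of_blocks T f hc hfib hβ hW hpp hcp hbp
      have h3 := S4202.result T (by rw [Fintype.card_fin]; omega) p hp3 h2
      rw [Fintype.card_fin] at h3
      have h4 : Nat.card (ConjClasses T) ≤ N := by
        by_contra hcon
        push Not at hcon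
        have := Nat.pow_le_pow_left (show N + 1 ≤ Nat.card (ConjClasses T) from hcon) 2
        omega
      have h5 : 2 * (Nat.card T * Nat.card (ConjClasses T)) ≤ 2 * ((b ! * c ! ^ b) * N) :=
        Nat.mul_le_mul_left _ (Nat.mul_le_mul hTc h4)
      omega
    rcases num_imp n b c h7 h19 hb3 hc hcb with ⟨rfl, rfl, rfl⟩ | ⟨rfl, rfl, rfl⟩ | ⟨rfl, rfl, rfl⟩ | h
    · exact hcase 5 46 (by norm_num) (by norm_num) (by norm_num) (by norm_num) (by norm_num) (by decide)
    · exact hcase 5 81 (by norm_num) (by norm_num) (by norm_num) (by norm_num) (by norm_num) (by decide)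
    · exact hcase 7 140 (by norm_num) (by norm_num) (by norm_num) (by norm_num) (by norm_num) (by decide)
    · have h5 : 2 * (Nat.card T * Nat.card (ConjClasses T)) ≤ 2 * ((b ! * c ! ^ b) * 2 ^ (n - 1)) :=
        Nat.mul_le_mul_left _ (Nat.mul_le_mul hTc hk)
      omega

end Cfsg.Agent.H549.NcS
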