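import Cfsg.Agent.H549.NcS.Prim
import Cfsg.Agent.H436.Simple

/-!
# Primitive groups of degree 7 and 8 (helper549, S4766)
-/

set_option autoImplicit false
set_option linter.unusedSectionVars false

namespace Cfsg.Agent.H549.NcS

open Equiv MulAction
open scoped Nat Pointwise
open Cfsg.Agent.H540.ClassNum Cfsg.Agent.H540 Cfsg.Agent.H539
open Cfsg.Agent.H436 Cfsg.Agent.OrdDiv

universe u

theorem kfl_empty : (KFL.filter fun g => Nat.beq (ordN g) 1344) = [] := by decide

/-- no simple group of order 1344 -/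
theorem not_1344 {S : Type u} [Group S] [Finite S] [IsSimpleGroup S] (hG : ¬ IsMulCommutative S) :
    Nat.card S ≠ 1344 := by
  intro hc
  have hf3 : (Nat.card S).primeFactors.card = 3 := by
    rw [hc]
    decide +kernel
  have hc0 : Nat.card S ≠ 0 := Nat.card_pos.ne'
  obtain ⟨g, hg, h⟩ := k_four_simple hG (by omega)
  rcases h with ⟨q, rfl⟩ | ⟨q, rfl⟩ | h
  · obtain ⟨-, h4, hq⟩ := hg.cond
    have h4' := h4 rfl
    have hf := psl_two_factors hq.two_le hg.eq
    rw [hf] at hf3
    have he := hg.eq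
    rw [hc] at he
    rcases lTwo_three hq hf3.le with rfl | rfl | rfl | rfl | rfl | rfl | rfl | rfl <;>
      (revert he; decide)
  · obtain ⟨m, hm, rfl⟩ := hg.cond
    have h1 : 1 * Nat.card S = (2 ^ (2 * m + 1)) ^ 2 * ((2 ^ (2 * m + 1) - 1) * ((2 ^ (2 * m + 1)) ^ 2 + 1)) := hg.eq
    have := Cfsg.Agent.Classification.ThreePrimes.four_le_suzuki (n := Nat.card S) hm hc0
      ⟨1, by rw [mul_one, ← one_mul (Nat.card S), h1]; ring⟩
    omega
  · have h1 : g ∈ KFL.filter fun g => Nat.beq (ordN g) 1344 := by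
      rw [List.mem_filter]
      refine ⟨h, ?_⟩
      rw [← hg.ord, hc]
      rfl
    rw [kfl_empty] at h1
    exact absurd h1 List.not_mem_nil

section

variable {n : ℕ} (hn : 5 ≤ n) {T : Subgroup (Perm (Fin n))} (hp : IsPreprimitive T (Fin n))

include hn hp in
theorem top_ne_bot : (⊤ : Subgroup T) ≠ ⊥ := by
  intro h
  obtain ⟨g, hg⟩ := MulAction.IsPretransitive.exists_smul_eq (M := T) (⟨0, by omega⟩ : Fin n) ⟨1, by omega⟩
  have h1 : g ∈ (⊤ : Subgroup T) := trivial
  rw [h, Subgroup.mem_bot] at h1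
  rw [h1, one_smul] at hg
  have := congrArg Fin.val hg
  simp at this

include hn hp in
/-- a minimal normal subgroup is abelian, or a power of a nonabelian simple group -/
theorem soc : ∃ N : Subgroup T, N.Normal ∧ N ≠ ⊥ ∧ (∀ M : Subgroup T, M.Normal → M ≤ N → M = ⊥ ∨ M = N) ∧
    IsPretransitive N (Fin n) ∧ ((∀ a ∈ N, ∀ b ∈ N, a * b = b * a) ∨
      (¬ IsMulCommutative N ∧ ∃ (S : Type) (_ : Group S) (m : ℕ), IsSimpleGroup S ∧ Finite S ∧ 0 < m ∧ ¬ IsMulCommutative S ∧
        Nonempty (N ≃* (Fin m → S)))) := by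
  obtain ⟨N, -, hNn, hN0, hmin⟩ := Asm.exists_min_normal (⊤ : Subgroup T) (top_ne_bot hn hp)
  refine ⟨N, hNn, hN0, hmin, Asm.trans_of_normal N hN0, ?_⟩
  by_cases hab : IsMulCommutative N
  · left
    intro a ha b hb
    exact congrArg Subtype.val (hab.is_comm.comm (⟨a, ha⟩ : N) ⟨b, hb⟩)
  · right
    refine ⟨hab, ?_⟩
    obtain ⟨S, instS, m, hSs, hm0, ⟨e⟩⟩ := S0721.result N hN0 hmin
    have hSf : Finite S := Finite.of_injective _ (SocBound.io_injective N e ⟨0, hm0⟩)
    refine ⟨S, instS, m, hSs, hSf, hm0, ?_, ⟨e⟩⟩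
    intro hcomm
    apply hab
    refine ⟨⟨fun x y => ?_⟩⟩
    apply e.injective
    rw [map_mul, map_mul]
    funext i
    exact hcomm.is_comm.comm _ _

end

theorem dvd_of_trans {n : ℕ} {T : Subgroup (Perm (Fin n))} (hn : 0 < n) (N : Subgroup T) (h : IsPretransitive N (Fin n)) :
    n ∣ Nat.card N := by
  have h1 := index_stabilizer_of_transitive N (⟨0, hn⟩ : Fin n)
  rw [Nat.card_eq_fintype_card (α := Fin n), Fintype.card_fin] at h1
  have h2 := Subgroup.index_dvd_card (stabilizer N (⟨0, hn⟩ : Fin n))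
  rw [h1] at h2
  exact h2

/-- the order of a simple factor -/
theorem card_cases {S : Type} [Group S] [Finite S] [IsSimpleGroup S] (hS : ¬ IsMulCommutative S)
    (h : Nat.card S ≤ 1344) : 60 ≤ Nat.card S ∧ (Nat.card S = 60 ∨ Nat.card S = 168 ∨ Nat.card S = 360 ∨ Nat.card S = 504 ∨
      Nat.card S = 660 ∨ Nat.card S = 1092 ∨ (1092 < Nat.card S ∧ Nat.card S < 1344)) := by
  rcases Nat.lt_or_ge 1092 (Nat.card S) with h1 | h1
  · refine ⟨by omega, ?_⟩
    have := not_1344 hS
    omega
  · have h2 := S0496.result hS h1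
    omega

theorem prim_seven {T : Subgroup (Perm (Fin 7))} (hp : IsPreprimitive T (Fin 7))
    (hA : ¬ alternatingGroup (Fin 7) ≤ T) : 2 * (Nat.card T * Nat.card (ConjClasses T)) < (7) ! := by
  by_cases h5 : 5 ∣ Nat.card T
  swap
  · exact of_k hp hA (N := 11) (le_of_sq (k_sq hp (by norm_num) (Or.inr (Or.inl rfl)) h5) (by norm_num)) (by decide)
  have hB := H427.bochert T hp hA
  rw [Fintype.card_fin] at hB
  have h7 : (7) ! = 5040 := by decide
  have h4 : ((7 + 1) / 2)! = 24 := by decide
  rw [h7, h4] at hB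
  have hT : Nat.card T ≤ 210 := by omega
  obtain ⟨N, hNn, hN0, hmin, hNt, hab | ⟨hna, S, _, m, hSs, hSf, hm0, hSna, ⟨e⟩⟩⟩ := soc (by norm_num) hp
  · have h1 := AffSmall.prime_degree hp N hN0 hab (by rw [Nat.card_eq_fintype_card, Fintype.card_fin]; norm_num)
    rw [Nat.card_eq_fintype_card (α := Fin 7), Fintype.card_fin] at h1
    exact of_k hp hA h1 (by decide)
  · exfalso
    have h1 := Main.card_pow N e
    have h2 : Nat.card N ≤ Nat.card T := Subgroup.card_le_card_group N
    have h3 : Nat.card S ≤ Nat.card N := by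
      rw [h1]
      exact Nat.le_self_pow (by omega) _
    have h6 := card_cases hSna (by omega)
    have hm : m = 1 := by
      by_contra hm
      have : Nat.card S ^ 2 ≤ Nat.card S ^ m := Nat.pow_le_pow_right (by omega) (by omega)
      have : 60 ^ 2 ≤ Nat.card S ^ 2 := Nat.pow_le_pow_left h6.1 2
      omega
    rw [hm, pow_one] at h1
    have h8 := dvd_of_trans (by norm_num) N hNt
    have h9 : Nat.card N ∣ Nat.card T := Subgroup.card_subgroup_dvd_card N
    have h10 : Nat.card N = 168 := by omega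
    rw [h10] at h9
    omega

/-- the outer automorphism group of the simple group of order 168 -/
theorem out_168 {S : Type} [Group S] [Finite S] [IsSimpleGroup S] (hS : ¬ IsMulCommutative S)
    (h : Nat.card S = 168) : Nat.card (Cfsg.Out S) ≤ 2 := by
  have h7 : Fact (Nat.Prime 7) := ⟨by norm_num⟩
  have hF : Fintype.card (ZMod 7) = 7 := ZMod.card 7
  obtain ⟨e⟩ := S0495.result h hF
  have hs : IsSimpleGroup (Matrix.ProjectiveSpecialLinearGroup (Fin 2) (ZMod 7)) := e.symm.isSimpleGroup
  rw [H934.OutB.card_out_congr e, RowSmall.out_psl2 7 1 (by norm_num) le_rfl (by rw [hF]; norm_num) (by norm_num) hs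
      (RowSmall.noncomm hS e)]
  norm_num

/-- the affine case in degree 8 -/
theorem affine_eight {G : Type*} [Group G] [Finite G] {α : Type*} [Finite α] [MulAction G α] [FaithfulSMul G α]
    (hα : Nat.card α = 8) (hG : Nat.card G = 1344) (hprim : IsPreprimitive G α) (N : Subgroup G) [hNn : N.Normal]
    (hN : N ≠ ⊥) (hab : ∀ a ∈ N, ∀ b ∈ N, a * b = b * a) : Nat.card (ConjClasses G) ≤ 13 := by
  classical
  have hne : Nonempty α := (Nat.card_pos_iff.1 (by omega)).1
  obtain ⟨a⟩ := hne
  obtain ⟨q, d, hq, hd, hnq, hNq, hpow, hC, hmin⟩ := Affine.setup hprim N hN hab a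
  rw [hα] at hnq
  have : Fact q.Prime := ⟨hq⟩
  have hq2 : q = 2 := by
    have h1 : q ∣ 2 ^ 3 := by
      have h2 : q ∣ q ^ d := dvd_pow_self q (by omega)
      rw [← hnq] at h2
      exact h2
    exact (Nat.prime_dvd_prime_iff_eq hq Nat.prime_two).1 (hq.dvd_of_dvd_pow h1)
  subst hq2
  have hd3 : d = 3 := Nat.pow_right_injective le_rfl (show 2 ^ d = 2 ^ 3 from hnq.symm)
  subst hd3
  let _ : CommGroup N := Affine.comm N hab
  set f : G ⧸ N →* MulAut N := Affine.act N hab with hf
  have hfinj : Function.Injective f := Affine.act_injective N hab hC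
  have hirr : LinC.Irr f := Affine.irr_act N hab hmin
  have hpow' : ∀ x : N, x ^ 2 = 1 := fun x => Subtype.ext (hpow x x.2)
  have hQs : ∀ lam : N →* ℂˣ, Dual.Qs N lam = LinB.stab f lam := by
    intro lam
    ext x
    rw [Affine.mem_Qs_iff N hab, LinB.mem_stab]
  have hN8 : Nat.card N = 8 := by rw [hNq]; norm_num
  have hcq : Nat.card (G ⧸ N) = 168 := by
    have h1 := Subgroup.card_eq_card_quotient_mul_card_subgroup N
    rw [hG, hN8] at h1
    omega
  have hp5 : ¬ 5 ∣ Nat.card (G ⧸ N) := by rw [hcq]; decide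
  have tab := H540.Assembly.tab (p := 5) (fun T _ _ _ => Cfsg.Agent.S0000.result) (Or.inr (Or.inl rfl))
  have hPB : PermRed.PB 5 (2 ^ 2) := Main.bound (Or.inr (Or.inl rfl)) tab (2 ^ 2)
  -- the isomorphism with `GL_3(2)`
  obtain ⟨e⟩ := Lib.ElemAbGL.mulAut_equiv_GL (V := N) 2 3 hpow' (by rw [hN8]; norm_num)
  let F : G ⧸ N →* Matrix.GeneralLinearGroup (Fin 3) (ZMod 2) := e.toMonoidHom.comp f
  have hF : Function.Injective F := e.injective.comp hfinj
  have hFr : F.range = ⊤ := by
    apply Subgroup.eq_top_of_card_eq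
    rw [← Nat.card_congr (MonoidHom.ofInjective hF).toEquiv, hcq, AffEight.card_GL_three_two]
  let E : G ⧸ N ≃* Matrix.GeneralLinearGroup (Fin 3) (ZMod 2) :=
    ((MonoidHom.ofInjective hF).trans (MulEquiv.subgroupCongr hFr)).trans Subgroup.topEquiv
  have hidx : ∀ lam : N →* ℂˣ, lam ≠ 1 → 6 ≤ (Dual.Qs N lam).index := by
    intro lam hlam
    have h1 : Dual.Qs N lam ≠ ⊤ := by
      intro htop
      have h2 := LinC.succ_le_index (d := 3) hpow' (by rw [hN8]; norm_num) (by norm_num) f hirr lam hlam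
      rw [← hQs, htop, Subgroup.index_top] at h2
      omega
    have h3 : (Dual.Qs N lam).map E.toMonoidHom ≠ ⊤ := by
      intro h
      apply h1
      apply Subgroup.map_injective (f := E.toMonoidHom) E.injective
      rw [h]
      exact (Subgroup.map_top_of_surjective E.toMonoidHom E.surjective).symm
    have h4 := CaseA.six_le_index _ h3
    rw [Subgroup.index_map_of_bijective (f := E.toMonoidHom) E.bijective] at h4
    exact h4
  have hK : Nat.card (ConjClasses (G ⧸ N)) ≤ 8 := AffEight.GL_three_two hpow' hN8 f hfinj hirr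
  have hK' : ∀ lam : N →* ℂˣ, lam ≠ 1 → Nat.card (ConjClasses (Dual.Qs N lam)) ≤ 5 := by
    intro lam hlam
    rw [hQs]
    have h1 := LinC.stab_PB (d := 2) hpow' (by rw [hN8]; norm_num) f hfinj lam hlam hp5 hPB
    exact le_of_sq h1 (by decide)
  have h2 := Affine.affine_le N hab 6 8 5 hK hK' hidx
  rw [hN8] at h2
  omega

theorem prim_eight {T : Subgroup (Perm (Fin 8))} (hp : IsPreprimitive T (Fin 8)) (hT : T ≤ alternatingGroup (Fin 8))
    (hA : ¬ alternatingGroup (Fin 8) ≤ T) : 2 * (Nat.card T * Nat.card (ConjClasses T)) < (8) ! := by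
  by_contra hcon
  push Not at hcon
  have h8 : (8) ! = 40320 := by decide
  rw [h8] at hcon
  have h5 : ¬ 5 ∣ Nat.card T := not_dvd_of_exact hp hA (by norm_num) (by norm_num) (by norm_num) (by decide)
  have hk : Nat.card (ConjClasses T) ≤ 16 := le_of_sq (k_sq hp (by norm_num) (Or.inr (Or.inl rfl)) h5) (by norm_num)
  have h9 : ¬ 9 ∣ Nat.card T := by
    intro h
    exact hA (jord hp (by norm_num) (r := 3) (k := 2) (by norm_num) (by norm_num) h (by decide))
  have hd : Nat.card T ∣ 20160 := by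
    have h1 := Subgroup.card_dvd_of_le hT
    have h2 := two_mul_nat_card_alternatingGroup (α := Fin 8)
    rw [card_perm_fin, h8] at h2
    have h3 : Nat.card (alternatingGroup (Fin 8)) = 20160 := by omega
    rwa [h3] at h1
  have hT1 : 1260 ≤ Nat.card T := by
    have : Nat.card T * Nat.card (ConjClasses T) ≤ Nat.card T * 16 := Nat.mul_le_mul_left _ hk
    omega
  have hcT : Nat.card T = 1344 := by
    obtain ⟨j, hj⟩ := hd
    have hj16 : j ≤ 16 := by
      by_contra hcon
      have : 1260 * 17 ≤ Nat.card T * j := Nat.mul_le_mul hT1 (by omega)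
      omega
    interval_cases j <;> omega
  have hk15 : 15 ≤ Nat.card (ConjClasses T) := by
    rw [hcT] at hcon
    omega
  obtain ⟨N, hNn, hN0, hmin, hNt, hab | ⟨hna, S, _, m, hSs, hSf, hm0, hSna, ⟨e⟩⟩⟩ := soc (by norm_num) hp
  · have h1 := affine_eight (by rw [Nat.card_eq_fintype_card, Fintype.card_fin]) hcT hp N hN0 hab
    omega
  · have h1 := Main.card_pow N e
    have h2 : Nat.card N ∣ Nat.card T := Subgroup.card_subgroup_dvd_card N
    have h2' : Nat.card N ≤ Nat.card T := Subgroup.card_le_card_group N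
    have h3 : Nat.card S ≤ Nat.card N := by
      rw [h1]
      exact Nat.le_self_pow (by omega) _
    have h6 := card_cases hSna (by omega)
    have hm : m = 1 := by
      by_contra hm
      have : Nat.card S ^ 2 ≤ Nat.card S ^ m := Nat.pow_le_pow_right (by omega) (by omega)
      have : 60 ^ 2 ≤ Nat.card S ^ 2 := Nat.pow_le_pow_left h6.1 2
      omega
    subst hm
    rw [pow_one] at h1
    rw [hcT] at h2
    have hS168 : Nat.card S = 168 := by
      rw [h1] at h2
      rcases h6.2 with h | h | h | h | h | h | ⟨ha, hb⟩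
      · rw [h] at h2; exact absurd h2 (by decide)
      · exact h
      · rw [h] at h2; exact absurd h2 (by decide)
      · rw [h] at h2; exact absurd h2 (by decide)
      · rw [h] at h2; exact absurd h2 (by decide)
      · rw [h] at h2; exact absurd h2 (by decide)
      · exfalso
        obtain ⟨j, hj⟩ := h2
        have hj2 : j < 2 := by
          by_contra hcon
          have : 1093 * 2 ≤ Nat.card S * j := Nat.mul_le_mul (by omega) (by omega)
          omega
        interval_cases j <;> omega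
    have hC : Subgroup.centralizer (N : Set T) = ⊥ := by
      by_contra hne
      have hCn : (Subgroup.centralizer (N : Set T)).Normal := inferInstance
      obtain ⟨L, hLC, hLn, hL0, hLmin⟩ := Asm.exists_min_normal _ hne
      have hLN : L ≠ N := by
        intro h
        rw [h] at hLC
        apply hna
        refine ⟨⟨fun x y => Subtype.ext ?_⟩⟩
        exact (Subgroup.mem_centralizer_iff.1 (hLC y.2)) x.1 x.2
      have hLt : IsPretransitive L (Fin 8) := Asm.trans_of_normal L hL0
      obtain ⟨-, hreg, -⟩ := S0704.result T L N hL0 hN0 hLmin hmin hLN hLt hNt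
      have h7 := CaseA.card_regular N (0 : Fin 8) (hreg 0)
      rw [Nat.card_eq_fintype_card (α := Fin 8), Fintype.card_fin] at h7
      omega
    have h10 := Main.card_dvd_aut T N hC hSna e
    rw [hcT, hS168] at h10
    have h11 := out_168 hSna hS168
    have h12 : 0 < Nat.card (Cfsg.Out S) * 168 := by
      rw [← hS168, H934.OutB.card_out_mul S hSna]
      exact Nat.card_pos
    have := Nat.le_of_dvd h12 h10
    omega

end Cfsg.Agent.H549.NcS
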