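import Cfsg.Agent.H549.NcS.Prim
import Cfsg.Agent.S0712

/-!
# Primitive groups of degree 16 (helper549, S4766)
-/

set_option autoImplicit false
set_option linter.unusedSectionVars false

namespace Cfsg.Agent.H549.NcS

open Equiv MulAction
open scoped Nat Pointwise
open Cfsg.Agent.H540.ClassNum

section FixSec

variable {α : Type*} [Fintype α] [DecidableEq α]

/-- the elements of `T` supported in `D` -/
def Fx (T : Subgroup (Perm α)) (D : Finset α) : Subgroup (Perm α) where
  carrier := {g | g ∈ T ∧ ∀ x, x ∉ D → g x = x}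
  one_mem' := ⟨T.one_mem, fun _ _ => rfl⟩
  mul_mem' := by
    rintro g h ⟨hg, hg'⟩ ⟨hh, hh'⟩
    exact ⟨T.mul_mem hg hh, fun x hx => by rw [Perm.mul_apply, hh' x hx, hg' x hx]⟩
  inv_mem' := by
    rintro g ⟨hg, hg'⟩
    exact ⟨T.inv_mem hg, fun x hx => by rw [Perm.inv_eq_iff_eq, hg' x hx]⟩

variable {T : Subgroup (Perm α)} {D : Finset α}

theorem mem_Fx {g : Perm α} : g ∈ Fx T D ↔ g ∈ T ∧ ∀ x, x ∉ D → g x = x := Iff.rfl

theorem Fx_mono {D' : Finset α} (h : D ⊆ D') : Fx T D ≤ Fx T D' := by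
  rintro g ⟨hg, hg'⟩
  exact ⟨hg, fun x hx => hg' x fun h' => hx (h h')⟩

theorem apply_mem {g : Perm α} (hg : g ∈ Fx T D) {x : α} (hx : x ∈ D) : g x ∈ D := by
  by_contra hcon
  have h1 := hg.2 _ hcon
  have h2 := g.injective h1
  rw [h2] at hcon
  exact hcon hx

theorem orbit_sub {x : α} (hx : x ∈ D) : orbit (Fx T D) x ⊆ (D : Set α) := by
  rintro _ ⟨g, rfl⟩
  exact apply_mem g.2 hx

theorem card_Fx (a : α) :
    Nat.card (Fx T D) = (orbit (Fx T D) a).ncard * Nat.card (Fx T (D.erase a)) := by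
  have h1 := (stabilizer (Fx T D) a).card_mul_index
  rw [index_stabilizer] at h1
  have h2 : Nat.card (stabilizer (Fx T D) a) = Nat.card (Fx T (D.erase a)) := by
    refine Nat.card_congr ⟨fun g => ⟨g.1.1, g.1.2.1, fun x hx => ?_⟩, fun g => ⟨⟨g.1, g.2.1, fun x hx => ?_⟩, ?_⟩,
      fun g => rfl, fun g => rfl⟩
    · by_cases h : x = a
      · rw [h]; exact g.2
      · exact g.1.2.2 x fun hxD => hx (Finset.mem_erase.2 ⟨h, hxD⟩)
    · exact g.2.2 x fun h => hx (Finset.mem_of_mem_erase h)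
    · exact g.2.2 a (Finset.notMem_erase a D)
  rw [← h1, h2, mul_comm]

theorem card_Fx_top : Nat.card (Fx (⊤ : Subgroup (Perm α)) D) = D.card ! := by
  have h1 : Nat.card (Fx (⊤ : Subgroup (Perm α)) D) = Nat.card (Perm {x // x ∈ D}) := by
    refine (Nat.card_congr ((Perm.subtypeEquivSubtypePerm (fun x => x ∈ D)).trans
      ⟨fun g => ⟨g.1, trivial, g.2⟩, fun g => ⟨g.1, g.2.2⟩, fun g => rfl, fun g => rfl⟩)).symm
  rw [h1, Nat.card_perm, Nat.card_eq_fintype_card, Fintype.card_coe]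

theorem fac_le_Fx (T : Subgroup (Perm α)) (D : Finset α) : D.card ! ≤ Nat.card (Fx T D) * T.index := by
  have h1 : Fx T D = T ⊓ Fx (⊤ : Subgroup (Perm α)) D := by
    ext g
    rw [Subgroup.mem_inf, mem_Fx, mem_Fx]
    exact ⟨fun h => ⟨h.1, trivial, h.2⟩, fun h => ⟨h.1, h.2.2⟩⟩
  have h2 : Nat.card (Fx (⊤ : Subgroup (Perm α)) D) = Nat.card (Fx T D) * T.relIndex (Fx (⊤ : Subgroup (Perm α)) D) := by
    rw [h1, ← Subgroup.inf_relIndex_right T (Fx (⊤ : Subgroup (Perm α)) D), ← Subgroup.relIndex_bot_left,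
      ← Subgroup.relIndex_bot_left, Subgroup.relIndex_mul_relIndex _ _ _ bot_le inf_le_right]
  rw [← card_Fx_top (D := D), h2]
  refine Nat.mul_le_mul_left _ ?_
  rw [← Subgroup.relIndex_top_right T]
  exact Subgroup.relIndex_le_of_le_right le_top (by rw [Subgroup.relIndex_top_right]; exact Subgroup.index_ne_zero_of_finite)

/-- **Bochert**: a large set supporting no element -/
theorem exists_good (hp : IsPreprimitive T α) (hA : ¬ alternatingGroup α ≤ T) :
    ∃ Γ : Finset α, (Fintype.card α + 1) / 2 ≤ Γ.card ∧ Fx T Γ = ⊥ := by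
  classical
  let good : Finset (Finset α) := Finset.univ.filter fun Γ => Fx T Γ = ⊥
  have hne : good.Nonempty := ⟨∅, by
    simp only [good, Finset.mem_filter, Finset.mem_univ, true_and]
    rw [eq_bot_iff]
    rintro g ⟨-, hg⟩
    rw [Subgroup.mem_bot]
    ext x
    exact hg x (Finset.notMem_empty x)⟩
  obtain ⟨Γ, hΓ, hmax⟩ := good.exists_max_image Finset.card hne
  have hΓ' : Fx T Γ = ⊥ := by simpa [good] using hΓ
  have hmax' : ∀ Δ : Finset α, Γ.card < Δ.card → ∃ h ∈ Fx T Δ, h ≠ 1 := by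
    intro Δ hΔ
    by_contra hc
    push Not at hc
    have h1 : Δ ∈ good := by
      simp only [good, Finset.mem_filter, Finset.mem_univ, true_and]
      rw [eq_bot_iff]
      intro g hg
      exact Subgroup.mem_bot.2 (hc g hg)
    have := hmax Δ h1
    omega
  refine ⟨Γ, ?_, hΓ'⟩
  by_contra hc
  have hlt : Γ.card < (Γᶜ).card := by
    rw [Finset.card_compl]
    omega
  obtain ⟨x, ⟨hxT, hxs⟩, hx1⟩ := hmax' _ hlt
  obtain ⟨δ, hδ⟩ : ∃ δ, x δ ≠ δ := by
    by_contra hc'
    push Not at hc'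
    exact hx1 (Equiv.ext hc')
  have hδΓ : δ ∉ Γ := by
    intro h
    exact hδ (hxs δ fun h' => (Finset.mem_compl.1 h') h)
  obtain ⟨y, hy, hy1⟩ := hmax' (insert δ Γ) (by rw [Finset.card_insert_of_notMem hδΓ]; omega)
  have hyδ : y δ ≠ δ := by
    intro hc'
    apply hy1
    have h1 : y ∈ Fx T Γ := ⟨hy.1, fun ω hω => by
      by_cases h : ω = δ
      · rw [h, hc']
      · exact hy.2 ω fun h' => by
          rcases Finset.mem_insert.1 h' with h'' | h''
          · exact h h''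
          · exact hω h''⟩
    rw [hΓ', Subgroup.mem_bot] at h1
    exact h1
  have h3 : Perm.IsThreeCycle (x * y * x⁻¹ * y⁻¹) := by
    apply H427.isThreeCycle_commutator_of_support_inter hδ hyδ
    intro ω h1 h2
    by_contra hne'
    apply h1
    apply hxs
    intro hωc
    apply h2
    apply hy.2
    intro h
    rcases Finset.mem_insert.1 h with h' | h'
    · exact hne' h'
    · exact (Finset.mem_compl.1 hωc) h'
  exact hA (Perm.alternatingGroup_le_of_isPreprimitive_of_isThreeCycle_mem hp h3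
    (T.mul_mem (T.mul_mem (T.mul_mem hxT hy.1) (T.inv_mem hxT)) (T.inv_mem hy.1)))

theorem orbit_mono {D' : Finset α} (h : D ⊆ D') (x : α) : orbit (Fx T D) x ⊆ orbit (Fx T D') x := by
  rintro _ ⟨g, rfl⟩
  exact ⟨⟨g.1, Fx_mono h g.2⟩, rfl⟩

theorem ncard_orbit_le {x : α} (hx : x ∈ D) : (orbit (Fx T D) x).ncard ≤ D.card := by
  have h1 := Set.ncard_le_ncard (orbit_sub (T := T) hx) (Set.toFinite _)
  rwa [Set.ncard_coe_finset] at h1

end FixSec

/-! ### the main argument -/

theorem num10 {x y z : ℕ} (h : 610 ≤ x * (y * z)) (hx : x ≤ 10) (hy : y + 1 ≤ x) (hz : z + 2 ≤ x) :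
    x = 10 ∧ ((y = 9) ∨ (y = 8 ∧ z = 8)) := by
  have hx10 : x = 10 := by
    by_contra hcon
    have h1 : x * (y * z) ≤ 9 * (8 * 7) := Nat.mul_le_mul (by omega) (Nat.mul_le_mul (by omega) (by omega))
    omega
  subst hx10
  refine ⟨rfl, ?_⟩
  have hy9 : y ≤ 9 := by omega
  have hz8 : z ≤ 8 := by omega
  interval_cases y <;> interval_cases z <;> omega

theorem prim_sixteen {T : Subgroup (Perm (Fin 16))} (hp : IsPreprimitive T (Fin 16))
    (hA : ¬ alternatingGroup (Fin 16) ≤ T) : 2 * (Nat.card T * Nat.card (ConjClasses T)) < (16) ! := by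
  classical
  by_contra hcon
  push Not at hcon
  have hcardT := T.card_mul_index
  rw [card_perm_fin] at hcardT
  have hpos : 0 < Nat.card T := Nat.card_pos
  -- the index
  have hidx : T.index ≤ 65536 := by
    have h1 : Nat.card T * T.index ≤ Nat.card T * 65536 := by
      rw [hcardT]
      refine hcon.trans ?_
      calc 2 * (Nat.card T * Nat.card (ConjClasses T)) ≤ 2 * (Nat.card T * 2 ^ (16 - 1)) :=
            Nat.mul_le_mul_left _ (Nat.mul_le_mul_left _ (k_le_two T))
        _ = _ := by ring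
    exact Nat.le_of_mul_le_mul_left h1 hpos
  clear hcon hcardT
  have h11 : ¬ 11 ∣ Nat.card T := not_dvd_of_exact hp hA (by norm_num) (by norm_num) (by norm_num) (by decide)
  have h13 : ¬ 13 ∣ Nat.card T := not_dvd_of_exact hp hA (by norm_num) (by norm_num) (by norm_num) (by decide)
  obtain ⟨Γ, hΓ8, hΓ⟩ := exists_good hp hA
  rw [Fintype.card_fin] at hΓ8
  have hΓ1 : Nat.card (Fx T Γ) = 1 := by rw [hΓ, Subgroup.card_bot]
  have hΓc : Γ.card = 8 := by
    by_contra hne
    have h1 := fac_le_Fx T Γ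
    rw [hΓ1, one_mul] at h1
    have h2 : (9)! ≤ Γ.card ! := Nat.factorial_le (by omega)
    have h3 : (9)! = 362880 := by decide
    omega
  have hex : ∀ D : Finset (Fin 16), D.card < 16 → ∃ x, x ∉ D := by
    intro D hD
    by_contra hcon
    push Not at hcon
    have h1 := Finset.card_univ (α := Fin 16)
    rw [← Finset.eq_univ_of_forall hcon, Fintype.card_fin] at h1
    omega
  obtain ⟨a, ha⟩ := hex Γ (by omega)
  have hD1c : (insert a Γ).card = 9 := by rw [Finset.card_insert_of_notMem ha, hΓc]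
  obtain ⟨b, hb⟩ := hex (insert a Γ) (by omega)
  have hD2c : (insert b (insert a Γ)).card = 10 := by rw [Finset.card_insert_of_notMem hb, hD1c]
  obtain ⟨c, hc⟩ := hex (insert b (insert a Γ)) (by omega)
  have hD3c : (insert c (insert b (insert a Γ))).card = 11 := by rw [Finset.card_insert_of_notMem hc, hD2c]
  have e1 : (insert a Γ).erase a = Γ := Finset.erase_insert ha
  have e2 : (insert b (insert a Γ)).erase b = insert a Γ := Finset.erase_insert hb
  have e3 : (insert c (insert b (insert a Γ))).erase c = insert b (insert a Γ) := Finset.erase_insert hc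
  set D1 := insert a Γ with hD1
  set D2 := insert b D1 with hD2
  set D3 := insert c D2 with hD3
  have haD1 : a ∈ D1 := Finset.mem_insert_self a Γ
  have hbD2 : b ∈ D2 := Finset.mem_insert_self b D1
  have hcD3 : c ∈ D3 := Finset.mem_insert_self c D2
  have h12 : D1 ⊆ D2 := Finset.subset_insert b D1
  have h23 : D2 ⊆ D3 := Finset.subset_insert c D2
  have hΓD3 : Γ ⊆ D3 := (Finset.subset_insert a Γ).trans (h12.trans h23)
  have hba : b ≠ a := fun h => hb (h ▸ haD1)
  have hcb : c ≠ b := fun h => hc (h ▸ hbD2)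
  have hca : c ≠ a := fun h => hc (h ▸ h12 haD1)
  have hbΓ : b ∉ Γ := fun h => hb (Finset.mem_insert_of_mem h)
  have hcΓ : c ∉ Γ := fun h => hc (h12 (Finset.mem_insert_of_mem h))
  -- the orders
  have f3 := card_Fx (T := T) (D := D3) c
  rw [e3] at f3
  have f2 := card_Fx (T := T) (D := D2) b
  rw [e2] at f2
  have f1 := card_Fx (T := T) (D := D1) a
  rw [e1, hΓ1, mul_one] at f1
  have hF3 : 610 ≤ Nat.card (Fx T D3) := by
    have h1 := fac_le_Fx T D3
    rw [hD3c] at h1
    have h2 : (11)! = 39916800 := by decide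
    rw [h2] at h1
    by_contra hlt
    have h4 : Nat.card (Fx T D3) * T.index ≤ 609 * 65536 := Nat.mul_le_mul (by omega) hidx
    omega
  -- ten points
  have hten : ∀ E : Finset (Fin 16), Γ ⊆ E → E.card = 10 → Nat.card (Fx T E) ≤ 90 := by
    intro E hE hEc
    obtain ⟨u, hu, huΓ⟩ : ∃ u ∈ E, u ∉ Γ := by
      by_contra hcon
      push Not at hcon
      have := Finset.card_le_card (show E ⊆ Γ from hcon)
      omega
    have hEu : (E.erase u).card = 9 := by rw [Finset.card_erase_of_mem hu, hEc]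
    have hEu' : Γ ⊆ E.erase u := fun x hx => Finset.mem_erase.2 ⟨fun h => huΓ (h ▸ hx), hE hx⟩
    obtain ⟨v, hv, hvΓ⟩ : ∃ v ∈ E.erase u, v ∉ Γ := by
      by_contra hcon
      push Not at hcon
      have := Finset.card_le_card (show E.erase u ⊆ Γ from hcon)
      omega
    have hEv : ((E.erase u).erase v).card = 8 := by rw [Finset.card_erase_of_mem hv, hEu]
    have hEv' : Γ ⊆ (E.erase u).erase v := fun x hx => Finset.mem_erase.2 ⟨fun h => hvΓ (h ▸ hx), hEu' hx⟩
    have hEe : (E.erase u).erase v = Γ := (Finset.eq_of_subset_of_card_le hEv' (by omega)).symm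
    have g1 := card_Fx (T := T) (D := E) u
    have g2 := card_Fx (T := T) (D := E.erase u) v
    rw [hEe, hΓ1, mul_one] at g2
    have g3 := ncard_orbit_le (T := T) hu
    have g4 := ncard_orbit_le (T := T) hv
    rw [hEc] at g3
    rw [hEu] at g4
    rw [g1, g2]
    exact Nat.mul_le_mul g3 g4
  have hseven : ∀ x ∈ D3, x ∉ Γ → 7 ≤ (orbit (Fx T D3) x).ncard := by
    intro x hx hxΓ
    have g1 := card_Fx (T := T) (D := D3) x
    have g2 := hten (D3.erase x) (fun y hy => Finset.mem_erase.2 ⟨fun h => hxΓ (h ▸ hy), hΓD3 hy⟩)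
      (by rw [Finset.card_erase_of_mem hx, hD3c])
    by_contra hcon
    have g3 : (orbit (Fx T D3) x).ncard * Nat.card (Fx T (D3.erase x)) ≤ 6 * 90 := Nat.mul_le_mul (by omega) g2
    omega
  set O : Set (Fin 16) := orbit (Fx T D3) c with hO
  have hOD : O ⊆ (D3 : Set (Fin 16)) := orbit_sub hcD3
  have hO7 : 7 ≤ O.ncard := hseven c hcD3 hcΓ
  have hsame : ∀ x ∈ D3, x ∉ Γ → orbit (Fx T D3) x = O := by
    intro x hx hxΓ
    by_contra hne
    have hdisj : Disjoint (orbit (Fx T D3) x) O := by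
      rw [Set.disjoint_left]
      intro z hz hzO
      apply hne
      exact (orbit_eq_iff.2 hz).symm.trans (orbit_eq_iff.2 hzO)
    have h1 := Set.ncard_union_eq hdisj (Set.toFinite _) (Set.toFinite _)
    have h2 : (orbit (Fx T D3) x ∪ O).ncard ≤ 11 := by
      rw [← hD3c, ← Set.ncard_coe_finset]
      exact Set.ncard_le_ncard (Set.union_subset (orbit_sub hx) hOD) (Set.toFinite _)
    have h3 := hseven x hx hxΓ
    omega
  have hcO : c ∈ O := mem_orbit_self c
  have hbO : b ∈ O := by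
    rw [← hsame b (h23 hbD2) hbΓ]
    exact mem_orbit_self b
  have haO : a ∈ O := by
    rw [← hsame a (h23 (h12 haD1)) ha]
    exact mem_orbit_self a
  have hinvO : ∀ g ∈ Fx T D3, ∀ x, g x ∈ O ↔ x ∈ O := by
    intro g hg x
    rw [hO, ← orbit_eq_iff, ← orbit_eq_iff]
    have : orbit (Fx T D3) (g x) = orbit (Fx T D3) x := orbit_smul (⟨g, hg⟩ : Fx T D3) x
    rw [this]
  have hO10 : O.ncard ≤ 10 := by
    have h1 : O.ncard ≤ 11 := by
      rw [← hD3c, ← Set.ncard_coe_finset]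
      exact Set.ncard_le_ncard hOD (Set.toFinite _)
    by_contra hcon
    have h2 : O.ncard = 11 := by omega
    apply h11
    have h3 : Nat.card (Fx T D3) ∣ Nat.card T := Subgroup.card_dvd_of_le fun g hg => hg.1
    rw [f3, h2] at h3
    exact (Dvd.intro _ rfl).trans h3
  -- the second orbit
  have hc2 : ∀ g ∈ Fx T D2, g c = c := fun g hg => hg.2 c hc
  have hs2 : ∀ x ∈ O, x ≠ c → orbit (Fx T D2) x ⊆ O \ {c} := by
    intro x hx hxc
    rintro _ ⟨g, rfl⟩
    refine ⟨(hinvO g.1 (Fx_mono h23 g.2) x).2 hx, ?_⟩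
    intro h
    have h1 : g.1 x = c := h
    have h2 := hc2 g.1 g.2
    exact hxc (g.1.injective (h1.trans h2.symm))
  have hOc : (O \ {c}).ncard = O.ncard - 1 := Set.ncard_sdiff_singleton_of_mem hcO
  have ho2 : (orbit (Fx T D2) b).ncard + 1 ≤ O.ncard := by
    have h1 := Set.ncard_le_ncard (hs2 b hbO hcb.symm) (Set.toFinite _)
    omega
  have hb1 : ∀ g ∈ Fx T D1, g b = b := fun g hg => hg.2 b hb
  have hs1 : orbit (Fx T D1) a ⊆ (O \ {c}) \ {b} := by
    rintro _ ⟨g, rfl⟩
    refine ⟨hs2 a haO hca.symm ⟨⟨g.1, Fx_mono h12 g.2⟩, rfl⟩, ?_⟩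
    intro h
    have h1 : g.1 a = b := h
    have h2 := hb1 g.1 g.2
    exact hba (g.1.injective (h1.trans h2.symm)).symm
  have hbOc : b ∈ O \ {c} := ⟨hbO, fun h => hcb (Set.mem_singleton_iff.1 h).symm⟩
  have hOcb : ((O \ {c}) \ {b}).ncard = O.ncard - 2 := by
    rw [Set.ncard_sdiff_singleton_of_mem hbOc, hOc]
    omega
  have ho1 : (orbit (Fx T D1) a).ncard + 2 ≤ O.ncard := by
    have h1 := Set.ncard_le_ncard hs1 (Set.toFinite _)
    omega
  have hprod : 610 ≤ O.ncard * ((orbit (Fx T D2) b).ncard * (orbit (Fx T D1) a).ncard) := by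
    rw [← f1, ← f2, ← f3]
    exact hF3
  obtain ⟨hO10', hcase⟩ := num10 hprod hO10 ho2 ho1
  have h9 : (orbit (Fx T D2) b).ncard = 9 := by
    rcases hcase with h | ⟨h8, h8'⟩
    · exact h
    · exfalso
      have hlt : (orbit (Fx T D2) b).ncard < (O \ {c}).ncard := by omega
      obtain ⟨c', hc', hc'b⟩ := Set.exists_mem_notMem_of_ncard_lt_ncard hlt (Set.toFinite _)
      have hc'ne : c' ≠ b := fun h => hc'b (by rw [h]; exact mem_orbit_self b)
      have h3 : orbit (Fx T D1) a = (O \ {c}) \ {b} := Set.eq_of_subset_of_ncard_le hs1 (by omega) (Set.toFinite _)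
      have h4 : c' ∈ orbit (Fx T D1) a := by
        rw [h3]
        exact ⟨hc', hc'ne⟩
      have h5 : (orbit (Fx T D1) c').ncard = 8 := by rw [orbit_eq_iff.2 h4, h8']
      have h6 : 8 ≤ (orbit (Fx T D2) c').ncard := by
        rw [← h5]
        exact Set.ncard_le_ncard (orbit_mono h12 c') (Set.toFinite _)
      have hdisj : Disjoint (orbit (Fx T D2) b) (orbit (Fx T D2) c') := by
        rw [Set.disjoint_left]
        intro z hz hzc
        apply hc'b
        exact orbit_eq_iff.1 ((orbit_eq_iff.2 hzc).symm.trans (orbit_eq_iff.2 hz))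
      have h7 := Set.ncard_union_eq hdisj (Set.toFinite _) (Set.toFinite _)
      have h10 : (orbit (Fx T D2) b ∪ orbit (Fx T D2) c').ncard ≤ (O \ {c}).ncard :=
        Set.ncard_le_ncard (Set.union_subset (hs2 b hbO hcb.symm) (hs2 c' hc'.1 hc'.2)) (Set.toFinite _)
      omega
  have hfull : orbit (Fx T D2) b = O \ {c} :=
    Set.eq_of_subset_of_ncard_le (hs2 b hbO hcb.symm) (by omega) (Set.toFinite _)
  -- the pairs
  have hpair : ∀ u ∈ O, ∀ v ∈ O, u ≠ v → ∀ u' ∈ O, ∀ v' ∈ O, u' ≠ v' → ∃ g ∈ Fx T D3, g u = u' ∧ g v = v' := by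
    have key : ∀ u ∈ O, ∀ v ∈ O, u ≠ v → ∃ g ∈ Fx T D3, g u = c ∧ g v = b := by
      intro u hu v hv huv
      obtain ⟨g, hg⟩ := hu
      have hg' : g.1⁻¹ u = c := by
        rw [Perm.inv_eq_iff_eq]
        exact hg.symm
      have h1 : g.1⁻¹ v ∈ O := (hinvO g.1⁻¹ ((Fx T D3).inv_mem g.2) v).2 hv
      have h2 : g.1⁻¹ v ≠ c := fun h => huv (g.1⁻¹.injective (hg'.trans h.symm))
      have h3 : g.1⁻¹ v ∈ orbit (Fx T D2) b := by
        rw [hfull]
        exact ⟨h1, h2⟩
      obtain ⟨k, hk⟩ := h3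
      refine ⟨k.1⁻¹ * g.1⁻¹, (Fx T D3).mul_mem ((Fx T D3).inv_mem (Fx_mono h23 k.2)) ((Fx T D3).inv_mem g.2), ?_, ?_⟩
      · rw [Perm.mul_apply, hg', Perm.inv_eq_iff_eq, hc2 k.1 k.2]
      · rw [Perm.mul_apply, Perm.inv_eq_iff_eq]
        exact hk.symm
    intro u hu v hv huv u' hu' v' hv' huv'
    obtain ⟨g, hg, hg1, hg2⟩ := key u hu v hv huv
    obtain ⟨k, hk, hk1, hk2⟩ := key u' hu' v' hv' huv'
    refine ⟨k⁻¹ * g, (Fx T D3).mul_mem ((Fx T D3).inv_mem hk) hg, ?_, ?_⟩
    · rw [Perm.mul_apply, hg1, Perm.inv_eq_iff_eq, hk1]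
    · rw [Perm.mul_apply, hg2, Perm.inv_eq_iff_eq, hk2]
  -- the elements of `Fx T D3` fix the complement of `O`
  have hfixO : ∀ g ∈ Fx T D3, ∀ x, x ∉ O → g x = x := by
    intro g hg x hx
    by_cases hxD : x ∈ D3
    · have h1 : g x ∈ (D3 : Set (Fin 16)) \ O := ⟨apply_mem hg hxD, fun h => hx ((hinvO g hg x).1 h)⟩
      have h2 : x ∈ (D3 : Set (Fin 16)) \ O := ⟨hxD, hx⟩
      have h3 : ((D3 : Set (Fin 16)) \ O).ncard ≤ 1 := by
        rw [Set.ncard_sdiff hOD (Set.toFinite _), Set.ncard_coe_finset, hD3c, hO10']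
      exact (Set.ncard_le_one (Set.toFinite _)).1 h3 _ h1 _ h2
    · exact hg.2 x hxD
  -- multiple transitivity
  have hs : (Oᶜ : Set (Fin 16)).ncard = 6 := by
    have h1 := Set.ncard_add_ncard_compl O (Set.toFinite _) (Set.toFinite _)
    rw [Nat.card_eq_fintype_card, Fintype.card_fin] at h1
    omega
  have h2t : IsMultiplyPretransitive (fixingSubgroup T (Oᶜ : Set (Fin 16)))
      (SubMulAction.ofFixingSubgroup T (Oᶜ : Set (Fin 16))) 2 := by
    rw [is_two_pretransitive_iff]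
    intro u v u' v' huv huv'
    have hmem : ∀ w : SubMulAction.ofFixingSubgroup T (Oᶜ : Set (Fin 16)), (w : Fin 16) ∈ O := by
      intro w
      have := w.2
      rw [SubMulAction.mem_ofFixingSubgroup_iff] at this
      by_contra hcon
      exact this hcon
    obtain ⟨g, hg, hg1, hg2⟩ := hpair u (hmem u) v (hmem v) (fun h => huv (Subtype.ext h)) u' (hmem u') v' (hmem v')
      (fun h => huv' (Subtype.ext h))
    refine ⟨⟨⟨g, hg.1⟩, ?_⟩, Subtype.ext hg1, Subtype.ext hg2⟩
    rw [mem_fixingSubgroup_iff]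
    intro x hx
    exact hfixO g hg x hx
  have h8 := S0712.result T hp (Oᶜ : Set (Fin 16)) hs (by rw [Fintype.card_fin]; norm_num) h2t
  have h4 : IsMultiplyPretransitive T (Fin 16) 4 :=
    isMultiplyPretransitive_of_le (n := 6 + 2) (by norm_num) (by rw [Nat.card_eq_fintype_card, Fintype.card_fin]; norm_num)
  obtain ⟨s4, hs4⟩ : ∃ s4 : Set (Fin 16), s4.ncard = 4 :=
    ⟨(({0, 1, 2, 3} : Finset (Fin 16)) : Set (Fin 16)), by rw [Set.ncard_coe_finset]; rfl⟩
  have h5 := h4.index_of_fixingSubgroup_mul hs4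
  rw [Nat.card_eq_fintype_card (α := Fin 16), Fintype.card_fin] at h5
  have h6 : (fixingSubgroup T s4).index = 43680 := by
    have h7 : (16 - 4)! = 479001600 := by decide
    have h8 : (16)! = 43680 * 479001600 := by decide
    rw [h7, h8] at h5
    exact Nat.eq_of_mul_eq_mul_right (by norm_num) h5
  apply h13
  have h7 : (fixingSubgroup T s4).index ∣ Nat.card T := Subgroup.index_dvd_card _
  rw [h6] at h7
  exact (by decide : 13 ∣ 43680).trans h7

end Cfsg.Agent.H549.NcS
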