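import Cfsg.Agent.H549.NcS.Imp
import Cfsg.Agent.H549.NcS.Prim2
import Cfsg.Agent.H549.NcS.Prim3
import Cfsg.Agent.H797.Nc.Main

/-!
# NC (A) for `7 ≤ n ≤ 19` (helper549, S4766)
-/

set_option autoImplicit false
set_option linter.unusedSectionVars false

namespace Cfsg.Agent.H549.NcS

open Equiv MulAction
open scoped Nat Pointwise
open Cfsg.Agent.H797.Nc Cfsg.Agent.H540.ClassNum

/-- a transitive group of even permutations has few commuting pairs -/
theorem trans_small {n : ℕ} (h7 : 7 ≤ n) (h19 : n ≤ 19) {T : Subgroup (Perm (Fin n))}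
    (hT : T ≤ alternatingGroup (Fin n)) (hA : ¬ alternatingGroup (Fin n) ≤ T) (ht : IsPretransitive T (Fin n)) :
    2 * (Nat.card T * Nat.card (ConjClasses T)) < n ! := by
  by_cases hp : IsPreprimitive T (Fin n)
  · have h1 : n = 7 ∨ n = 8 ∨ (n = 9 ∨ n = 10 ∨ n = 11 ∨ n = 12 ∨ n = 13) ∨ n = 14 ∨ n = 16 ∨
        (n = 15 ∨ n = 17 ∨ n = 18 ∨ n = 19) := by omega
    rcases h1 with h | h | h | h | h | h
    · subst h; exact prim_seven hp hA
    · subst h; exact prim_eight hp hT hA
    · exact prim_b hp hA h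
    · subst h; exact prim_c hp hT hA
    · subst h; exact prim_sixteen hp hA
    · exact prim_a hp hA h
  · exact no_imprim h7 h19 T hT ht hp

theorem trans_small' {β : Type} [Fintype β] [DecidableEq β] (h7 : 7 ≤ Fintype.card β) (h19 : Fintype.card β ≤ 19)
    {R : Subgroup (Perm β)} (hR : R ≤ alternatingGroup β) (hA : ¬ alternatingGroup β ≤ R)
    (ht : IsPretransitive R β) : 2 * (Nat.card R * Nat.card (ConjClasses R)) < (Fintype.card β)! := by
  let e : β ≃ Fin (Fintype.card β) := Fintype.equivFin β
  let ψ : Perm β ≃* Perm (Fin (Fintype.card β)) := e.permCongrHom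
  have hψ : ∀ g x, ψ g x = e (g (e.symm x)) := fun g x => rfl
  have hsign : ∀ g, Perm.sign (ψ g) = Perm.sign g := fun g => Perm.sign_permCongr e g
  have e1 : R ≃* R.map ψ.toMonoidHom := R.equivMapOfInjective _ ψ.injective
  rw [card_conjClasses_congr e1, Nat.card_congr e1.toEquiv]
  refine trans_small h7 h19 ?_ ?_ ?_
  · rintro _ ⟨g, hg, rfl⟩
    rw [Perm.mem_alternatingGroup]
    exact (hsign g).trans (Perm.mem_alternatingGroup.1 (hR hg))
  · intro hcon
    apply hA
    intro g hg
    have h1 : ψ g ∈ alternatingGroup (Fin (Fintype.card β)) := by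
      rw [Perm.mem_alternatingGroup, hsign]
      exact Perm.mem_alternatingGroup.1 hg
    obtain ⟨g', hg', h2⟩ := hcon h1
    rwa [← ψ.injective h2]
  · refine ⟨fun x y => ?_⟩
    obtain ⟨g, hg⟩ := ht.exists_smul_eq (e.symm x) (e.symm y)
    refine ⟨⟨ψ g, g, g.2, rfl⟩, ?_⟩
    have h1 : (g : Perm β) (e.symm x) = e.symm y := hg
    change ψ g x = y
    rw [hψ, h1, apply_symm_apply]

/-- orbits of a subgroup of index at most two in a transitive group -/
theorem half_orbit {K : Type*} [Group K] [Finite K] {α : Type*} [Finite α] [MulAction K α] [IsPretransitive K α]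
    (K0 : Subgroup K) (hi : K0.index ≤ 2) (x : α) : Nat.card α ≤ 2 * (orbit K0 x).ncard := by
  have h1 : (stabilizer K x).index = Nat.card α := index_stabilizer_of_transitive K x
  have h2 : (stabilizer K0 x).index = (orbit K0 x).ncard := index_stabilizer K0 x
  have h3 := (stabilizer K x).card_mul_index
  have h4 := (stabilizer K0 x).card_mul_index
  have h5 := K0.card_mul_index
  have h6 : Nat.card (stabilizer K0 x) ≤ Nat.card (stabilizer K x) := by
    refine Nat.card_le_card_of_injective (fun g : stabilizer K0 x => (⟨(g : K0), g.2⟩ : stabilizer K x)) ?_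
    intro a b hab
    apply Subtype.ext
    apply Subtype.ext
    exact congrArg (fun z : stabilizer K x => (z : K)) hab
  have h7 : 0 < Nat.card (stabilizer K x) := Nat.card_pos
  rw [h1] at h3
  rw [h2] at h4
  refine Nat.le_of_mul_le_mul_left ?_ h7
  calc Nat.card (stabilizer K x) * Nat.card α = Nat.card K := h3
    _ = Nat.card K0 * K0.index := h5.symm
    _ ≤ Nat.card K0 * 2 := Nat.mul_le_mul_left _ hi
    _ = (Nat.card (stabilizer K0 x) * (orbit K0 x).ncard) * 2 := by rw [h4]
    _ ≤ (Nat.card (stabilizer K x) * (orbit K0 x).ncard) * 2 :=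
        Nat.mul_le_mul_right _ (Nat.mul_le_mul_right _ h6)
    _ = _ := by ring

/-- a transitive group -/
theorem trans_any {β : Type} [Fintype β] [DecidableEq β] (h7 : 7 ≤ Fintype.card β) (h19 : Fintype.card β ≤ 19)
    {R : Subgroup (Perm β)} (hA : ¬ alternatingGroup β ≤ R)
    (ht : IsPretransitive R β) : Nat.card R * Nat.card (ConjClasses R) < 2 * (Fintype.card β)! := by
  classical
  by_contra hcon
  push Not at hcon
  set R0 : Subgroup R := (alternatingGroup β).subgroupOf R with hR0
  have hidx : R0.index ≤ 2 := by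
    have h1 : R0 = ((Perm.sign (α := β)).comp R.subtype).ker := by
      ext g
      rw [hR0, Subgroup.mem_subgroupOf, Perm.mem_alternatingGroup, MonoidHom.mem_ker]
      rfl
    rw [h1, Subgroup.index_ker]
    have h2 := Subgroup.card_le_card_group ((Perm.sign (α := β)).comp R.subtype).range
    rwa [Nat.card_eq_fintype_card (α := ℤˣ), Fintype.card_units_int] at h2
  have hpairs := pairs_index_two R0 hidx
  have hA0 : (Fintype.card β)! ≤ 2 * (Nat.card R0 * Nat.card (ConjClasses R0)) := by omega
  -- the group `R0` is not transitive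
  have hnt : ¬ IsPretransitive R0 β := by
    intro h
    let R1 : Subgroup (Perm β) := R0.map R.subtype
    have e1 : R0 ≃* R1 := R0.equivMapOfInjective _ R.subtype_injective
    have h1 := trans_small' h7 h19 (R := R1) ?_ ?_ ?_
    · rw [← card_conjClasses_congr e1, ← Nat.card_congr e1.toEquiv] at h1
      omega
    · rintro _ ⟨g, hg, rfl⟩
      exact hg
    · intro h2
      apply hA
      refine h2.trans ?_
      rintro _ ⟨g, hg, rfl⟩
      exact g.2
    · refine ⟨fun x y => ?_⟩
      obtain ⟨g, hg⟩ := h.exists_smul_eq x y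
      exact ⟨⟨_, g.1, g.2, rfl⟩, hg⟩
  obtain ⟨x, y, hxy⟩ : ∃ x y : β, y ∉ orbit R0 x := by
    by_contra hcon2
    push Not at hcon2
    exact hnt ⟨fun x y => hcon2 x y⟩
  let O : Finset β := Finset.univ.filter fun z => z ∈ orbit R0 x
  have hO : ∀ z, z ∈ O ↔ z ∈ orbit R0 x := by
    intro z
    simp only [O, Finset.mem_filter, Finset.mem_univ, true_and]
  have hOc : O.card = (orbit R0 x).ncard := by
    rw [← Set.ncard_coe_finset]
    congr 1
    ext z
    exact hO z
  have h1 := half_orbit R0 hidx x
  have h2 := half_orbit R0 hidx y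
  rw [Nat.card_eq_fintype_card] at h1 h2
  have h3 : (orbit R0 x).ncard + (orbit R0 y).ncard ≤ Fintype.card β := by
    rw [← Set.ncard_union_eq ?_ (Set.toFinite _) (Set.toFinite _), ← Nat.card_eq_fintype_card]
    · exact Set.ncard_le_card _
    · rw [Set.disjoint_left]
      intro z hz hz'
      apply hxy
      rw [← orbit_eq_iff.2 hz, orbit_eq_iff.2 hz']
      exact mem_orbit_self y
  refine no_inv (K := R0) (ι := R.subtype.comp R0.subtype) (R.subtype_injective.comp R0.subtype_injective) ?_ h7 h19
    hA0 O ?_ (by omega) (by omega)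
  · intro g
    exact Perm.mem_alternatingGroup.1 g.2
  · intro g z
    rw [hO, hO, ← orbit_eq_iff, ← orbit_eq_iff]
    have : orbit R0 ((R.subtype.comp R0.subtype) g z) = orbit R0 z := orbit_smul g z
    rw [this]

theorem not_alt_card {β : Type} [Fintype β] [DecidableEq β]
    {R : Subgroup (Perm β)} (hA : ¬ alternatingGroup β ≤ R) : 2 * Nat.card R ≤ (Fintype.card β)! := by
  have h1 := R.card_mul_index
  have h3 : 2 ≤ R.index := by
    by_contra hcon
    have h4 : R.index = 1 := by
      have := Subgroup.index_ne_zero_of_finite (H := R)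
      omega
    rw [Subgroup.index_eq_one] at h4
    exact hA (h4 ▸ le_top)
  rw [Nat.card_perm, Nat.card_eq_fintype_card (α := β)] at h1
  rw [← h1, mul_comm]
  exact Nat.mul_le_mul_left _ h3

/-- the index of a proper subgroup of a simple group -/
theorem card_le_index_fac {G : Type*} [Group G] [Finite G] [IsSimpleGroup G] (H : Subgroup G) (hH : H ≠ ⊤) :
    Nat.card G ≤ (H.index)! := by
  have h1 : (toPermHom G (G ⧸ H)).ker = ⊥ := by
    rcases (inferInstance : (toPermHom G (G ⧸ H)).ker.Normal).eq_bot_or_eq_top with h | h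
    · exact h
    · exfalso
      apply hH
      rw [← Subgroup.normalCore_eq_ker] at h
      exact top_le_iff.1 (h ▸ Subgroup.normalCore_le H)
  have h2 := Nat.card_le_card_of_injective _ ((MonoidHom.ker_eq_bot_iff _).1 h1)
  rwa [Nat.card_perm] at h2

theorem hasBig_small {n : ℕ} (h7 : 7 ≤ n) (h19 : n ≤ 19) {T : Subgroup (Perm (Fin n))}
    (hT : T < alternatingGroup (Fin n))
    (hA : Nat.card (alternatingGroup (Fin n)) ≤ Nat.card T * Nat.card (ConjClasses T)) : HasBig T := by
  classical
  have hTA : ¬ alternatingGroup (Fin n) ≤ T := not_le_of_gt hT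
  have hcard : Fintype.card (Fin n) = n := Fintype.card_fin n
  have hA' : n ! ≤ 2 * (Nat.card T * Nat.card (ConjClasses T)) := by
    have := fac_le (T := T) (by rw [hcard]; omega) hA
    rwa [hcard] at this
  obtain ⟨Δ, hinv, hor⟩ := exists_orbit (K := T) (α := Fin n)
  rw [hcard] at hor
  have h : ∀ (g : T) x, (T.subtype g) x ∈ Δ ↔ x ∈ Δ := hinv
  have hle : Δ.card ≤ n := by
    have := Finset.card_le_univ Δ
    rwa [hcard] at this
  have hno : ¬ (3 ≤ Δ.card ∧ Δ.card + 3 ≤ n) := by
    rintro ⟨h1, h2⟩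
    exact no_inv (K := T) T.subtype_injective (fun g => Perm.mem_alternatingGroup.1 (hT.le g.2))
      (by rw [hcard]; exact h7) (by rw [hcard]; exact h19) (by rw [hcard]; exact hA') Δ h h1 (by rw [hcard]; exact h2)
  have hor' : 2 * n < 3 * Δ.card ∧ ∀ x ∈ Δ, ∀ y ∈ Δ, ∃ g : T, g • x = y := by
    rcases hor with ⟨h1, h2⟩ | h1
    · exact absurd ⟨by omega, by omega⟩ hno
    · exact h1
  obtain ⟨h1, htr⟩ := hor'
  have hc2 : n ≤ Δ.card + 2 := by
    by_contra hcon
    exact hno ⟨by omega, by omega⟩
  have hcc : Δᶜ.card ≤ 2 := by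
    rw [Finset.card_compl, hcard]
    omega
  have hinj : Function.Injective (resHom T.subtype (fun x => x ∈ Δ) h) := by
    rw [injective_iff_map_eq_one]
    intro g hg
    apply Subtype.ext
    refine eq_one_of_two (hT.le g.2) Δ hcc ?_
    intro x hx
    have := congrArg (fun σ : Perm {x // x ∈ Δ} => ((σ ⟨x, hx⟩ : {x // x ∈ Δ}) : Fin n)) hg
    exact this
  refine ⟨Δ, by omega, fun g hg x => hinv ⟨g, hg⟩ x, ?_⟩
  set R : Subgroup (Perm {x // x ∈ Δ}) := ind T Δ h with hRdef
  have e1 : T ≃* R := MonoidHom.ofInjective hinj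
  by_cases hR : alternatingGroup {x // x ∈ Δ} ≤ R
  · intro g hg hfix
    have hgΔ : ∀ x, g x ∈ Δ ↔ x ∈ Δ := by
      intro x
      constructor
      · intro hx
        by_contra hcon
        rw [hfix x hcon] at hx
        exact hcon hx
      · intro hx
        by_contra hcon
        have h2 := hfix (g x) hcon
        have h3 := g.injective h2
        rw [h3] at hcon
        exact hcon hx
    have hσ : g.subtypePerm hgΔ ∈ alternatingGroup {x // x ∈ Δ} := by
      have h9 := Perm.sign_subtypePerm g (p := fun x => x ∈ Δ) hgΔ (fun x hx => by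
        by_contra hcon
        exact hx (hfix x hcon))
      rw [Perm.mem_alternatingGroup.1 hg] at h9
      rw [Perm.mem_alternatingGroup]
      convert h9
    obtain ⟨t, ht⟩ := hR hσ
    have h3 : g⁻¹ * (t : Perm (Fin n)) = 1 := by
      refine eq_one_of_two ((alternatingGroup (Fin n)).mul_mem ((alternatingGroup (Fin n)).inv_mem hg) (hT.le t.2)) Δ hcc ?_
      intro x hx
      have h4 : (t : Perm (Fin n)) x = g x :=
        congrArg (fun σ : Perm {x // x ∈ Δ} => ((σ ⟨x, hx⟩ : {x // x ∈ Δ}) : Fin n)) ht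
      rw [Perm.mul_apply, h4, Perm.inv_eq_iff_eq]
    rw [inv_mul_eq_one.1 h3]
    exact t.2
  exfalso
  have htrans : IsPretransitive R {x // x ∈ Δ} := by
    refine ⟨?_⟩
    rintro ⟨x, hx⟩ ⟨y, hy⟩
    obtain ⟨g, hg⟩ := htr x hx y hy
    exact ⟨⟨_, g, rfl⟩, Subtype.ext hg⟩
  have hcR : Fintype.card {x // x ∈ Δ} = Δ.card := card_in Δ
  rw [card_conjClasses_congr e1, Nat.card_congr e1.toEquiv] at hA'
  by_cases hm : Δ.card = n
  · -- transitive
    have hTt : IsPretransitive T (Fin n) := by
      refine ⟨fun x y => ?_⟩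
      have hu : Δ = Finset.univ := by
        rw [← Finset.card_eq_iff_eq_univ, hcard, hm]
      exact htr x (hu ▸ Finset.mem_univ x) y (hu ▸ Finset.mem_univ y)
    have h2 := trans_small h7 h19 hT.le hTA hTt
    rw [card_conjClasses_congr e1, Nat.card_congr e1.toEquiv] at h2
    omega
  by_cases hm1 : Δ.card + 1 = n
  · -- one more point
    have hev : R ≤ alternatingGroup {x // x ∈ Δ} := by
      rintro _ ⟨g, rfl⟩
      have h2 := sign_parts (g : Perm (Fin n)) Δ (h g)
      rw [Perm.mem_alternatingGroup.1 (hT.le g.2)] at h2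
      have h3 : (g : Perm (Fin n)).subtypePerm (p := fun x => x ∉ Δ) (fun x => not_congr (h g x)) = 1 := by
        have h4 : Subsingleton {x // x ∉ Δ} := by
          rw [← Fintype.card_le_one_iff_subsingleton, card_out, hcard]
          omega
        exact Subsingleton.elim _ _
      rw [h3, map_one, mul_one] at h2
      rw [Perm.mem_alternatingGroup]
      exact h2
    by_cases h8 : 8 ≤ n
    · have h2 := trans_small' (by rw [hcR]; omega) (by rw [hcR]; omega) hev hR htrans
      rw [hcR] at h2
      have h3 : Δ.card ! ≤ n ! := Nat.factorial_le hle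
      omega
    · -- six points
      have hc6 : Δ.card = 6 := by omega
      have hn7 : n = 7 := by omega
      have hsimple : IsSimpleGroup (alternatingGroup {x // x ∈ Δ}) := by
        apply alternatingGroup.isSimpleGroup
        rw [Nat.card_eq_fintype_card, hcR]
        omega
      have hnt : Nontrivial {x // x ∈ Δ} := by
        rw [← Fintype.one_lt_card_iff_nontrivial, hcR]
        omega
      have hc360 : Nat.card (alternatingGroup {x // x ∈ Δ}) = 360 := by
        have h2 := two_mul_nat_card_alternatingGroup (α := {x // x ∈ Δ})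
        rw [Nat.card_perm, Nat.card_eq_fintype_card (α := {x // x ∈ Δ}), hcR, hc6] at h2
        have h3 : (6)! = 720 := rfl
        omega
      set H := R.subgroupOf (alternatingGroup {x // x ∈ Δ}) with hH
      have hHt : H ≠ ⊤ := by
        rw [hH, Ne, Subgroup.subgroupOf_eq_top]
        exact hR
      have h4 := card_le_index_fac H hHt
      rw [hc360] at h4
      have h5 : 6 ≤ H.index := by
        by_contra hcon
        have h6 : (H.index)! ≤ (5)! := Nat.factorial_le (by omega)
        have h7 : (5)! = 120 := rfl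
        omega
      have h6 : Nat.card H = Nat.card R := Nat.card_congr (Subgroup.subgroupOfEquivOfLe hev).toEquiv
      have h8 := H.card_mul_index
      rw [h6, hc360] at h8
      have h9 : Nat.card R ≤ 60 := by
        by_contra hcon
        have : 61 * 6 ≤ Nat.card R * H.index := Nat.mul_le_mul (by omega) h5
        omega
      have h10 : Nat.card (ConjClasses R) ≤ 2 ^ 5 := by
        have := Cfsg.Agent.S4197.result R
        rwa [hcR, hc6] at this
      have h11 : Nat.card R * Nat.card (ConjClasses R) ≤ 60 * 2 ^ 5 := Nat.mul_le_mul h9 h10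
      have h12 : n ! = 5040 := by rw [hn7]; rfl
      omega
  -- two more points
  have hm2 : Δ.card + 2 = n := by omega
  have hfac : n ! = (Δ.card + 2) * ((Δ.card + 1) * Δ.card !) := by
    calc n ! = (Δ.card + 2)! := congrArg Nat.factorial hm2.symm
      _ = _ := by rw [Nat.factorial_succ, Nat.factorial_succ]
  by_cases h9 : 9 ≤ n
  · have h2 := trans_any (by rw [hcR]; omega) (by rw [hcR]; omega) hR htrans
    rw [hcR] at h2
    have h3 : 4 * Δ.card ! ≤ n ! := by
      rw [hfac]
      calc 4 * Δ.card ! ≤ (Δ.card + 2) * Δ.card ! := Nat.mul_le_mul_right _ (by omega)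
        _ ≤ _ := Nat.mul_le_mul_left _ (Nat.le_mul_of_pos_left _ (by omega))
    omega
  · have h2 := not_alt_card hR
    rw [hcR] at h2
    have h3 : Nat.card (ConjClasses R) ≤ 2 ^ (Δ.card - 1) := by
      have := Cfsg.Agent.S4197.result R
      rwa [hcR] at this
    have h4 : 2 * (Nat.card R * Nat.card (ConjClasses R)) ≤ Δ.card ! * 2 ^ (Δ.card - 1) := by
      rw [← mul_assoc]
      exact Nat.mul_le_mul h2 h3
    have h5 : Δ.card = 5 ∨ Δ.card = 6 := by omega
    rcases h5 with h5 | h5
    · rw [hfac] at hA'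
      rw [h5] at h4 hA'
      have h6 : (5)! = 120 := rfl
      rw [h6] at h4 hA'
      omega
    · rw [hfac] at hA'
      rw [h5] at h4 hA'
      have h6 : (6)! = 720 := rfl
      rw [h6] at h4 hA'
      omega

/-- **NC (A)** -/
theorem hasBig_all {n : ℕ} (h7 : 7 ≤ n) (T : Subgroup (Perm (Fin n))) (hT : T < alternatingGroup (Fin n))
    (hA : Nat.card (alternatingGroup (Fin n)) ≤ Nat.card T * Nat.card (ConjClasses T)) : HasBig T := by
  rcases Nat.lt_or_ge n 20 with h | h
  · exact hasBig_small h7 (by omega) hT hA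
  · refine hasBig h ?_ hA
    have := Cfsg.Agent.S4197.result T
    rwa [Fintype.card_fin] at this

/-- **NC** -/
theorem nc {n : ℕ} (hn : 7 ≤ n) {P W : Type*} [Group P] [Group W] [Nontrivial W] [MulDistribMulAction P W]
    (ψ : P →* alternatingGroup (Fin n)) (hψ : Function.Surjective ψ) (hker : ∀ g : P, ψ g = 1 → ∀ w : W, g • w = w)
    (hfix : ∀ w : W, (∀ g : P, g • w = w) → w = 1)
    (h : ∀ w : W, w ≠ 1 → Nat.card (alternatingGroup (Fin n)) ≤
      Nat.card ((stabilizer P w).map ψ) * Nat.card (ConjClasses ((stabilizer P w).map ψ))) : False :=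
  Cfsg.Agent.H797.Nc.main hn ψ hψ hker hfix h fun T hT hA => hasBig_all hn T hT hA

end Cfsg.Agent.H549.NcS
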