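import Cfsg.Agent.S4197
import Cfsg.Agent.S4199
import Cfsg.Agent.H427.Bochert
import Cfsg.Agent.S0496
import Cfsg.Agent.H436.Core3719

/-!
# Primitive groups of degree `7 ≤ n ≤ 19`, `n ≠ 16` (helper549, S4766)
-/

set_option autoImplicit false
set_option linter.unusedSectionVars false

namespace Cfsg.Agent.H549.NcS

open Equiv MulAction
open scoped Nat Pointwise
open Cfsg.Agent.H540.ClassNum Cfsg.Agent.H540

/-- Jordan with a full Sylow subgroup -/
theorem jord {n : ℕ} {T : Subgroup (Perm (Fin n))} (hp : IsPreprimitive T (Fin n)) (h5 : 5 ≤ n) {r k : ℕ}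
    (hr : r.Prime) (h3 : r + 3 ≤ n) (hN : r ^ k ∣ Nat.card T) (hl : ¬ r ^ (k + 1) ∣ n !) :
    alternatingGroup (Fin n) ≤ T := by
  obtain ⟨c, hcS, hc, hcs⟩ := EngG.exists_cycle hr (by omega) T hN hl
  exact S0713.result T hp hr (by rw [Fintype.card_fin]; exact h5) (by rw [Fintype.card_fin]; exact h3) hc hcs hcS

theorem card_perm_fin (n : ℕ) : Nat.card (Perm (Fin n)) = n ! := by
  rw [Nat.card_perm, Nat.card_eq_fintype_card, Fintype.card_fin]

/-- a prime dividing the index -/
theorem dvd_index {n : ℕ} {T : Subgroup (Perm (Fin n))} (hp : IsPreprimitive T (Fin n)) (h5 : 5 ≤ n)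
    (hA : ¬ alternatingGroup (Fin n) ≤ T) {r k : ℕ}
    (hr : r.Prime) (h3 : r + 3 ≤ n) (hN : r ^ k ∣ n !) (hl : ¬ r ^ (k + 1) ∣ n !) : r ∣ T.index := by
  by_contra hcon
  apply hA
  refine jord hp h5 hr h3 (k := k) ?_ hl
  have h1 := T.card_mul_index
  rw [card_perm_fin] at h1
  rw [← h1] at hN
  exact (Nat.Coprime.pow_left k ((Nat.Prime.coprime_iff_not_dvd hr).2 hcon)).dvd_of_dvd_mul_right hN

theorem of_k {n N : ℕ} {T : Subgroup (Perm (Fin n))} (hp : IsPreprimitive T (Fin n))
    (hA : ¬ alternatingGroup (Fin n) ≤ T) (hk : Nat.card (ConjClasses T) ≤ N) (hN : 2 * N < ((n + 1) / 2)!) :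
    2 * (Nat.card T * Nat.card (ConjClasses T)) < n ! := by
  have h1 := H427.bochert T hp hA
  rw [Fintype.card_fin] at h1
  have hpos : 0 < Nat.card T := Nat.card_pos
  calc 2 * (Nat.card T * Nat.card (ConjClasses T)) = Nat.card T * (2 * Nat.card (ConjClasses T)) := by ring
    _ ≤ Nat.card T * (2 * N) := Nat.mul_le_mul_left _ (Nat.mul_le_mul_left _ hk)
    _ < Nat.card T * ((n + 1) / 2)! := Nat.mul_lt_mul_of_pos_left hN hpos
    _ ≤ n ! := h1

theorem k_le_two {n : ℕ} (T : Subgroup (Perm (Fin n))) : Nat.card (ConjClasses T) ≤ 2 ^ (n - 1) := by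
  have hk := S4197.result T
  rwa [Fintype.card_fin] at hk

theorem prim_a {n : ℕ} {T : Subgroup (Perm (Fin n))} (hp : IsPreprimitive T (Fin n))
    (hA : ¬ alternatingGroup (Fin n) ≤ T) (hn : n = 15 ∨ n = 17 ∨ n = 18 ∨ n = 19) :
    2 * (Nat.card T * Nat.card (ConjClasses T)) < n ! := by
  refine of_k hp hA (k_le_two T) ?_
  rcases hn with rfl | rfl | rfl | rfl <;> decide

theorem not_dvd_of_exact {n : ℕ} {T : Subgroup (Perm (Fin n))} (hp : IsPreprimitive T (Fin n))
    (hA : ¬ alternatingGroup (Fin n) ≤ T) (h5 : 5 ≤ n) {r : ℕ} (hr : r.Prime) (h3 : r + 3 ≤ n)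
    (hl : ¬ r ^ 2 ∣ n !) : ¬ r ∣ Nat.card T := fun h =>
  hA (jord hp h5 hr h3 (k := 1) (by rwa [pow_one]) hl)

theorem k_sq {n p : ℕ} {T : Subgroup (Perm (Fin n))} (hp : IsPreprimitive T (Fin n)) (h7 : 7 ≤ n)
    (hp3 : p = 3 ∨ p = 5 ∨ p = 7) (hd : ¬ p ∣ Nat.card T) : Nat.card (ConjClasses T) ^ 2 ≤ 2 ^ n := by
  have h := S4199.result T hp (by rw [Fintype.card_fin]; exact h7) p hp3 hd
  rwa [Fintype.card_fin] at h

theorem le_of_sq {k N M : ℕ} (h : k ^ 2 ≤ M) (hN : M < (N + 1) ^ 2) : k ≤ N := by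
  by_contra hcon
  have := Nat.pow_le_pow_left (show N + 1 ≤ k by omega) 2
  omega

theorem prim_b {n : ℕ} {T : Subgroup (Perm (Fin n))} (hp : IsPreprimitive T (Fin n))
    (hA : ¬ alternatingGroup (Fin n) ≤ T) (hn : n = 9 ∨ n = 10 ∨ n = 11 ∨ n = 12 ∨ n = 13) :
    2 * (Nat.card T * Nat.card (ConjClasses T)) < n ! := by
  rcases hn with rfl | rfl | rfl | rfl | rfl
  · refine of_k hp hA (N := 22) (le_of_sq (k_sq hp (by norm_num) (Or.inr (Or.inl rfl))
      (not_dvd_of_exact hp hA (by norm_num) (by norm_num) (by norm_num) (by decide))) (by norm_num)) (by decide)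
  · refine of_k hp hA (N := 32) (le_of_sq (k_sq hp (by norm_num) (Or.inr (Or.inr rfl))
      (not_dvd_of_exact hp hA (by norm_num) (by norm_num) (by norm_num) (by decide))) (by norm_num)) (by decide)
  · refine of_k hp hA (N := 45) (le_of_sq (k_sq hp (by norm_num) (Or.inr (Or.inr rfl))
      (not_dvd_of_exact hp hA (by norm_num) (by norm_num) (by norm_num) (by decide))) (by norm_num)) (by decide)
  · refine of_k hp hA (N := 64) (le_of_sq (k_sq hp (by norm_num) (Or.inr (Or.inr rfl))
      (not_dvd_of_exact hp hA (by norm_num) (by norm_num) (by norm_num) (by decide))) (by norm_num)) (by decide)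
  · refine of_k hp hA (N := 90) (le_of_sq (k_sq hp (by norm_num) (Or.inr (Or.inr rfl))
      (not_dvd_of_exact hp hA (by norm_num) (by norm_num) (by norm_num) (by decide))) (by norm_num)) (by decide)

/-! ### degree 14 -/

/-- a group of prime degree `p` and order divisible by `p` is primitive -/
theorem prim_of_prime {β : Type*} [Fintype β] [DecidableEq β] (R : Subgroup (Perm β)) (hβ : (Fintype.card β).Prime)
    (hd : Fintype.card β ∣ Nat.card R) : IsPreprimitive R β := by
  classical
  have : Fact (Fintype.card β).Prime := ⟨hβ⟩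
  obtain ⟨g, hg⟩ := exists_prime_orderOf_dvd_card' (Fintype.card β) hd
  have hg' : orderOf (g : Perm β) = Fintype.card β := by
    rw [← hg]
    exact orderOf_injective R.subtype R.subtype_injective g
  have hc : (g : Perm β).IsCycle := Perm.isCycle_of_prime_order'' hβ hg'
  have hsupp : (g : Perm β).support = Finset.univ := by
    rw [← Finset.card_eq_iff_eq_univ, ← hc.orderOf, hg']
  have htr : IsPretransitive R β := by
    refine ⟨fun x y => ?_⟩
    have hx : (g : Perm β) x ≠ x := by
      rw [← Perm.mem_support, hsupp]; exact Finset.mem_univ _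
    have hy : (g : Perm β) y ≠ y := by
      rw [← Perm.mem_support, hsupp]; exact Finset.mem_univ _
    obtain ⟨i, hi⟩ := hc.sameCycle hx hy
    exact ⟨g ^ i, by
      show ((g ^ i : R) : Perm β) x = y
      rw [Subgroup.coe_zpow]
      exact hi⟩
  exact IsPreprimitive.of_prime_card (by rw [Nat.card_eq_fintype_card]; exact hβ)

/-- the action of a point stabilizer on the other points -/
def stHom {n : ℕ} (T : Subgroup (Perm (Fin n))) (a : Fin n) : stabilizer T a →* Perm {x : Fin n // x ≠ a} where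
  toFun g := ((g : T) : Perm (Fin n)).subtypePerm (fun x => by
    have h1 : ((g : T) : Perm (Fin n)) a = a := g.2
    constructor
    · intro h hx
      exact h (by rw [hx, h1])
    · intro h hx
      exact h (((g : T) : Perm (Fin n)).injective (by rw [hx, h1])))
  map_one' := by
    ext x
    simp
  map_mul' x y := by
    ext z
    rfl

theorem stHom_injective {n : ℕ} (T : Subgroup (Perm (Fin n))) (a : Fin n) : Function.Injective (stHom T a) := by
  intro g h hgh
  apply Subtype.ext
  apply Subtype.ext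
  ext x
  by_cases hx : x = a
  · subst hx
    have h1 : ((g : T) : Perm (Fin n)) x = x := g.2
    have h2 : ((h : T) : Perm (Fin n)) x = x := h.2
    rw [h1, h2]
  · have := congrArg (fun σ : Perm {x : Fin n // x ≠ a} => ((σ ⟨x, hx⟩ : {x : Fin n // x ≠ a}) : Fin n)) hgh
    exact congrArg Fin.val this

theorem prim_c {T : Subgroup (Perm (Fin 14))} (hp : IsPreprimitive T (Fin 14)) (hT : T ≤ alternatingGroup (Fin 14))
    (hA : ¬ alternatingGroup (Fin 14) ≤ T) : 2 * (Nat.card T * Nat.card (ConjClasses T)) < (14) ! := by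
  classical
  by_contra hcon
  push Not at hcon
  have hcardT := T.card_mul_index
  rw [card_perm_fin] at hcardT
  have hpos : 0 < Nat.card T := Nat.card_pos
  -- the index
  have hi1 : T.index ≤ 2 ^ 14 := by
    have h1 : Nat.card T * T.index ≤ Nat.card T * 2 ^ 14 := by
      rw [hcardT]
      refine hcon.trans ?_
      calc 2 * (Nat.card T * Nat.card (ConjClasses T)) ≤ 2 * (Nat.card T * 2 ^ (14 - 1)) :=
            Nat.mul_le_mul_left _ (Nat.mul_le_mul_left _ (k_le_two T))
        _ = _ := by ring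
    exact Nat.le_of_mul_le_mul_left h1 hpos
  have h13 : 13 ∣ Nat.card T := by
    by_contra h13
    have d3 := dvd_index hp (by norm_num) hA (r := 3) (k := 5) (by norm_num) (by norm_num) (by decide) (by decide)
    have d5 := dvd_index hp (by norm_num) hA (r := 5) (k := 2) (by norm_num) (by norm_num) (by decide) (by decide)
    have d7 := dvd_index hp (by norm_num) hA (r := 7) (k := 2) (by norm_num) (by norm_num) (by decide) (by decide)
    have d11 := dvd_index hp (by norm_num) hA (r := 11) (k := 1) (by norm_num) (by norm_num) (by decide) (by decide)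
    have d13 : 13 ∣ T.index := by
      have h1 : 13 ∣ Nat.card T * T.index := by rw [hcardT]; decide
      exact ((Nat.Prime.dvd_mul (by norm_num)).1 h1).resolve_left h13
    have d2 : 2 ∣ T.index := by
      have h1 : (alternatingGroup (Fin 14)).index ∣ T.index := Subgroup.index_dvd_of_le hT
      rwa [alternatingGroup.index_eq_two] at h1
    have hpos' : 0 < T.index := Nat.pos_of_ne_zero Subgroup.index_ne_zero_of_finite
    have e1 : 2 * 3 ∣ T.index := Nat.Coprime.mul_dvd_of_dvd_of_dvd (by decide) d2 d3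
    have e2 : 2 * 3 * 5 ∣ T.index := Nat.Coprime.mul_dvd_of_dvd_of_dvd (by decide) e1 d5
    have e3 : 2 * 3 * 5 * 7 ∣ T.index := Nat.Coprime.mul_dvd_of_dvd_of_dvd (by decide) e2 d7
    have e4 : 2 * 3 * 5 * 7 * 11 ∣ T.index := Nat.Coprime.mul_dvd_of_dvd_of_dvd (by decide) e3 d11
    have e5 : 2 * 3 * 5 * 7 * 11 * 13 ∣ T.index := Nat.Coprime.mul_dvd_of_dvd_of_dvd (by decide) e4 d13
    exact absurd ((Nat.le_of_dvd hpos' e5).trans hi1) (by norm_num)
  -- the point stabilizer
  let a : Fin 14 := 0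
  have hidx : (stabilizer T a).index = 14 := by
    rw [index_stabilizer_of_transitive T a, Nat.card_eq_fintype_card, Fintype.card_fin]
  have hst := (stabilizer T a).card_mul_index
  rw [hidx] at hst
  have h7 : ¬ 7 ∣ Nat.card (stabilizer T a) := by
    rintro ⟨c, hc⟩
    have hd : 7 ^ 2 ∣ Nat.card T := ⟨2 * c, by rw [← hst, hc]; ring⟩
    exact hA (jord hp (by norm_num) (r := 7) (k := 2) (by norm_num) (by norm_num) hd (by decide))
  have h13' : 13 ∣ Nat.card (stabilizer T a) := by
    rw [← hst] at h13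
    exact ((Nat.Prime.dvd_mul (by norm_num)).1 h13).resolve_right (by decide)
  set R := (stHom T a).range with hR
  have eR : stabilizer T a ≃* R := MonoidHom.ofInjective (stHom_injective T a)
  have hcR : Nat.card (stabilizer T a) = Nat.card R := Nat.card_congr eR.toEquiv
  have hβ : Fintype.card {x : Fin 14 // x ≠ a} = 13 := by
    rw [Fintype.card_subtype_compl, Fintype.card_fin, Fintype.card_subtype_eq]
  have hRp : IsPreprimitive R {x : Fin 14 // x ≠ a} :=
    prim_of_prime R (by rw [hβ]; norm_num) (by rw [hβ, ← hcR]; exact h13')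
  have h1 := S4199.result R hRp (by rw [hβ]; norm_num) 7 (Or.inr (Or.inr rfl)) (by rw [← hcR]; exact h7)
  rw [hβ] at h1
  have h2 : Nat.card (ConjClasses R) ≤ 90 := le_of_sq h1 (by norm_num)
  have h3 := le_index_mul' (stabilizer T a)
  rw [hidx, card_conjClasses_congr eR] at h3
  have h4 : Nat.card (ConjClasses T) ≤ 1260 := h3.trans (Nat.mul_le_mul_left 14 h2)
  have h5 := of_k hp hA h4 (by decide)
  exact absurd h5 (not_lt.2 hcon)

end Cfsg.Agent.H549.NcS
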